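import Cfsg.Agent.TAB.C3B.Build
import Cfsg.Agent.H740.OreM.ThreeBd

/-!
# TAB / C(3B): the centralizer of an element of order 3 and fixed rank 0 in the Monster (helper15)
-/

set_option autoImplicit false

namespace Cfsg.Agent.TAB.C3B

open Cfsg Cfsg.Agent.MonsterX Cfsg.Agent.MonsterX.InstData Cfsg.Agent.MonsterX.MainPack Cfsg.Agent.MonsterU
open Cfsg.Agent.MonsterP Cfsg.Agent.MonsterN Cfsg.Agent.LThreeMB
open Cfsg.Agent.MonsterX.MainBasic Cfsg.Agent.MonsterX.MainSimple Cfsg.Agent.MonsterX.Model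
open Cfsg.Agent.MonsterU.Lam2 Cfsg.Agent.MonsterU.TwoCls
open Cfsg.Agent.BpSpor.MBigModel Cfsg.Agent.H199.NSmMon Cfsg.Agent.H31.TwoCyc.MPart
open Cfsg.Agent.H777.Ore Cfsg.Agent.BpSpor.M5 Cfsg.Agent.H740.OreM.Dich Cfsg.Agent.H740.OreM.Threes
open Subgroup (centralizer zpowers mem_centralizer_singleton_iff)

/-- **The model of `C(x)`.** -/
theorem exists_mod {x : centralizer ({zz} : Set MG)} (hx : orderOf x = 3) (hfr : fr (pi x) = 1) :
    ∃ m : Mod ↥(centralizer ({(x : MG)} : Set MG)), (m.z : MG) = zz ∧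
      ((m.X 1 : MG) = x ∨ (m.X 1 : MG) = (x : MG)⁻¹) := by
  have := finite
  obtain ⟨N, hD⟩ := H740.OreM.ThreeBd.exists_SD hx hfr
  obtain ⟨k, hk⟩ := hD.sq
  obtain ⟨m, h1, h2⟩ := exists_mod_of_rad hD.rad hD.cen hD.cardN
    (CoOneFin.coOne.suz (pi x) (orderOf_pi chart hx) hfr) hD.ns hk
  refine ⟨m, by rw [h1]; rfl, h2.imp (fun h => by rw [h]; rfl) (fun h => by rw [h]; rfl)⟩

/-- the model exists -/
theorem exists_mod' : ∃ (x : centralizer ({zz} : Set MG)) (m : Mod ↥(centralizer ({(x : MG)} : Set MG))),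
    orderOf x = 3 ∧ fr (pi x) = 1 ∧ (m.z : MG) = zz ∧ ((m.X 1 : MG) = x ∨ (m.X 1 : MG) = (x : MG)⁻¹) := by
  obtain ⟨x, hx, hfr, -⟩ := exists_full3
  obtain ⟨m, h1, h2⟩ := exists_mod hx hfr
  exact ⟨x, m, hx, hfr, h1, h2⟩

end Cfsg.Agent.TAB.C3B
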