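import Cfsg.Agent.TAB.C3B.Defs
import Cfsg.Agent.TAB.Eng.Fib

/-!
# TAB / C(3B): computations in the model (helper15)

`el k v c = k * β v * X c`; normal form, conjugation, powers, the order of the group, counting.
-/

set_option autoImplicit false

namespace Cfsg.Agent.TAB.C3B

open Matrix Cfsg.Agent.H920.Sz12

theorem z3_two : ∀ a : ZMod 3, a + a = 0 → a = 0 := by decide

theorem z3_three : ∀ a : ZMod 3, a + a + a = 0 := by decide

theorem z3_span : ∀ d : ZMod 3, d ≠ 0 → ∀ c c' : ZMod 3, ∃ t : ZMod 3, c' = c + (t * d + t * d) := by decide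

theorem vecMul_inv_cancel (A : GL12) (v : V12) : (v ᵥ* ((A⁻¹ : GL12) : M12)) ᵥ* (A : M12) = v := by
  rw [vecMul_vecMul, ← Units.val_mul, inv_mul_cancel, Units.val_one, vecMul_one]

theorem vecMul_cancel_inv (A : GL12) (v : V12) : (v ᵥ* (A : M12)) ᵥ* ((A⁻¹ : GL12) : M12) = v := by
  rw [vecMul_vecMul, ← Units.val_mul, mul_inv_cancel, Units.val_one, vecMul_one]

theorem fm_smul_right (c : ZMod 3) (u v : V12) : fm u (c • v) = c * fm u v := by
  unfold fm; rw [dotProduct_smul, smul_eq_mul]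

theorem card_rows : Nat.card V12 = 3 ^ 12 := by
  rw [Nat.card_eq_fintype_card, Fintype.card_fun, ZMod.card]
  simp

theorem m1_ne : (-1 : GL12) ≠ 1 := by
  intro h
  have h1 := congrArg (fun g : GL12 => (g : M12) (Sum.inl 0) (Sum.inl 0)) h
  simp only [Units.val_neg, Units.val_one, Matrix.neg_apply, Matrix.one_apply_eq] at h1
  exact absurd h1 (by decide)

/-- the vector part of a power -/
def ps (A : M12) (v : V12) : ℕ → V12
  | 0 => 0
  | n + 1 => ps A v n ᵥ* A + v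

theorem ps_realised : True := by have := @ps.eq_def; trivial

/-- the central part of a power -/
def pq (A : M12) (v : V12) : ℕ → ZMod 3
  | 0 => 0
  | n + 1 => pq A v n + fm (ps A v n ᵥ* A) v

theorem pq_realised : True := by have := @pq.eq_def; trivial

namespace Mod

variable {D : Type*} [Group D] (m : Mod D)

/-- the centralizer of `z` -/
def K (k : D) : Prop := k * m.z = m.z * k

/-- the normal form -/
def el (k : D) (v : V12) (c : ZMod 3) : D := k * m.β v * m.X c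

theorem X_zero : m.X 0 = 1 := by
  have h := m.X_add 0 0
  rw [add_zero] at h
  exact left_eq_mul.1 h

theorem X_neg (a : ZMod 3) : m.X (-a) = (m.X a)⁻¹ := by
  rw [eq_inv_iff_mul_eq_one, ← m.X_add, neg_add_cancel, X_zero]

theorem X_injective : Function.Injective m.X := by
  intro a b h
  rw [← sub_eq_zero]
  apply m.X_inj
  rw [sub_eq_add_neg, m.X_add, X_neg, h, mul_inv_cancel]

theorem X_pow (a : ZMod 3) (n : ℕ) : m.X a ^ n = m.X (n * a) := by
  induction n with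
  | zero => rw [pow_zero, Nat.cast_zero, zero_mul, X_zero]
  | succ n ih => rw [pow_succ, ih, ← m.X_add, Nat.cast_succ, add_mul, one_mul]

theorem X_comm (a : ZMod 3) (g : D) : Commute g (m.X a) := m.X_cen a g

theorem β_zero : m.β 0 = 1 := by
  have h := m.β_mul 0 0
  rw [add_zero, fm_self, X_zero, mul_one] at h
  exact mul_eq_left.1 h

theorem β_neg (v : V12) : m.β (-v) = (m.β v)⁻¹ := by
  rw [eq_inv_iff_mul_eq_one, m.β_mul, neg_add_cancel, fm_neg_left, fm_self, neg_zero, X_zero, β_zero, mul_one]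

theorem K_one : m.K 1 := by unfold K; rw [one_mul, mul_one]

theorem K_z : m.K m.z := rfl

theorem K_X (a : ZMod 3) : m.K (m.X a) := (m.X_cen a m.z).symm

variable {m}

theorem K.mul {k l : D} (hk : m.K k) (hl : m.K l) : m.K (k * l) := Commute.mul_left hk hl

theorem K.inv {k : D} (hk : m.K k) : m.K k⁻¹ := Commute.inv_left hk

theorem K.pow {k : D} (hk : m.K k) (n : ℕ) : m.K (k ^ n) := Commute.pow_left hk n

theorem K.mul_X {k : D} (hk : m.K k) (a : ZMod 3) : m.K (k * m.X a) := hk.mul (m.K_X a)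

theorem β_move {k : D} (hk : m.K k) (v : V12) : m.β v * k = k * m.β (v ᵥ* (m.R k : M12)) := by
  rw [← m.conj k hk, mul_assoc, mul_inv_cancel_left]

theorem el_zero (k : D) (c : ZMod 3) : m.el k 0 c = k * m.X c := by
  unfold el; rw [m.β_zero, mul_one]

theorem el_zero_zero (k : D) : m.el k 0 0 = k := by
  rw [el_zero, m.X_zero, mul_one]

theorem R_el (k : D) (v : V12) (c : ZMod 3) : m.R (m.el k v c) = m.R k := by
  unfold el; rw [map_mul, map_mul, m.R_β, m.R_X, mul_one, mul_one]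

theorem el_mul_X (k : D) (a : ZMod 3) (v : V12) (c : ZMod 3) : m.el (k * m.X a) v c = m.el k v (a + c) := by
  unfold el
  rw [m.X_add, mul_assoc k, ← m.X_cen, mul_assoc, mul_assoc, mul_assoc]

theorem el_mul {l : D} (hl : m.K l) (k : D) (v w : V12) (c d : ZMod 3) :
    m.el k v c * m.el l w d = m.el (k * l) (v ᵥ* (m.R l : M12) + w) (fm (v ᵥ* (m.R l : M12)) w + (c + d)) := by
  unfold el
  rw [m.X_add, m.X_add, ← mul_assoc _ (m.X (fm _ _)), mul_assoc (k * l), ← m.β_mul, mul_assoc (k * m.β v),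
    ← m.X_cen c, ← mul_assoc, ← mul_assoc, ← mul_assoc, mul_assoc k (m.β v), β_move hl]
  simp only [mul_assoc]
  rw [m.X_cen c (m.X d)]

/-- the uniqueness of the vector part -/
theorem vec_eq {k l : D} (hk : m.K k) (hl : m.K l) {v w : V12} {c d : ZMod 3} (h : m.el k v c = m.el l w d) :
    v = w := by
  have h1 : m.R k = m.R l := by rw [← R_el k v c, h, R_el]
  obtain ⟨a, ha⟩ := m.R_ker (l⁻¹ * k) (hl.inv.mul hk) (by rw [map_mul, map_inv, h1, inv_mul_cancel])
  have h2 : k = l * m.X a := by rw [← ha, mul_inv_cancel_left]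
  rw [h2, el_mul_X] at h
  unfold el at h
  rw [mul_assoc, mul_assoc, mul_left_cancel_iff] at h
  have h3 : m.β v * m.β (-w) * m.X (a + c) = m.X d := by
    rw [mul_assoc, m.X_cen, ← mul_assoc, h, m.β_neg, m.X_cen, mul_inv_cancel_right]
  rw [m.β_mul, mul_assoc, ← m.X_add, ← eq_mul_inv_iff_mul_eq, ← m.X_neg, ← m.X_add] at h3
  exact add_neg_eq_zero.1 (m.β_inj _ _ h3)

theorem el_inj {k : D} (hk : m.K k) {v w : V12} {c d : ZMod 3} (h : m.el k v c = m.el k w d) : v = w ∧ c = d := by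
  have h1 := vec_eq hk hk h
  subst h1
  exact ⟨rfl, m.X_injective (mul_left_cancel h)⟩

theorem exists_el {k g : D} (hk : m.K k) (h : m.R g = m.R k) : ∃ v c, g = m.el k v c := by
  obtain ⟨l, v, hl, rfl⟩ := m.dec g
  rw [map_mul, m.R_β, mul_one] at h
  obtain ⟨a, ha⟩ := m.R_ker (k⁻¹ * l) (hk.inv.mul hl) (by rw [map_mul, map_inv, h, inv_mul_cancel])
  refine ⟨v, a + 0, ?_⟩
  rw [← el_mul_X, ← ha, mul_inv_cancel_left, el, m.X_zero, mul_one]

/-- conjugation by an element of `K` -/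
theorem conj_K {l : D} (hl : m.K l) (k : D) (v : V12) (c : ZMod 3) :
    l⁻¹ * m.el k v c * l = m.el (l⁻¹ * k * l) (v ᵥ* (m.R l : M12)) c := by
  unfold el
  rw [← m.conj l hl, mul_assoc _ _ l, mul_assoc _ _ l, ← m.X_cen c l]
  group

/-- conjugation by an element of `N` -/
theorem conj_β {k : D} (hk : m.K k) (v w : V12) (c : ZMod 3) :
    (m.β w)⁻¹ * m.el k v c * m.β w = m.el k (v + (w - w ᵥ* (m.R k : M12)))
      (c + (fm (v - w ᵥ* (m.R k : M12)) w - fm (w ᵥ* (m.R k : M12)) v)) := by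
  have h1 : (m.β w)⁻¹ = m.el 1 (-w) 0 := by rw [el, m.X_zero, mul_one, one_mul, m.β_neg]
  have h2 : m.β w = m.el 1 w 0 := by rw [el, m.X_zero, mul_one, one_mul]
  rw [h1, el_mul hk]
  conv_lhs => rw [h2]
  rw [el_mul m.K_one, map_one, Units.val_one, vecMul_one, one_mul, mul_one, neg_vecMul, fm_neg_left]
  congr 1
  · abel
  · rw [neg_add_eq_sub]
    ring

/-- a fixed vector moves the central part -/
theorem conj_X {k : D} (hk : m.K k) {v w : V12} (hw : w ᵥ* (m.R k : M12) = w) (hvw : fm v w ≠ 0) (c d : ZMod 3) :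
    ∃ h : D, h⁻¹ * m.el k v c * h = m.el k v d := by
  obtain ⟨t, ht⟩ := z3_span _ hvw c d
  refine ⟨m.β (t • w), ?_⟩
  rw [conj_β hk, smul_vecMul, hw, sub_self, add_zero, fm_sub_left, fm_self, sub_zero, fm_swap v (t • w),
    fm_smul_right, ht, sub_neg_eq_add]

theorem el_pow {k : D} (hk : m.K k) (v : V12) (c : ZMod 3) (n : ℕ) :
    m.el k v c ^ n = m.el (k ^ n) (ps (m.R k : M12) v n) (pq (m.R k : M12) v n + n * c) := by
  induction n with
  | zero => rw [pow_zero, pow_zero, ps, pq, Nat.cast_zero, zero_mul, add_zero, el_zero_zero]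
  | succ n ih =>
    rw [pow_succ, ih, el_mul hk, ← pow_succ, ps, pq]
    congr 1
    push_cast
    ring

/-- commuting images -/
theorem conj_of_comm {k l : D} (hk : m.K k) (hl : m.K l) (h : m.R k * m.R l = m.R l * m.R k) :
    ∃ a, l⁻¹ * k * l = k * m.X a := by
  obtain ⟨a, ha⟩ := m.R_ker (k⁻¹ * (l⁻¹ * k * l)) (hk.inv.mul ((hl.inv.mul hk).mul hl)) (by
    rw [map_mul, map_mul, map_mul, map_inv, map_inv, mul_assoc (m.R l)⁻¹, h]
    group)
  exact ⟨a, by rw [← ha, mul_inv_cancel_left]⟩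

/-- lifts of finite order -/
theorem pow_eq_one {k : D} (hk : m.K k) {n : ℕ} (h : m.R k ^ (3 * n) = 1) : k ^ (3 * n) = 1 := by
  obtain ⟨a, ha⟩ := m.R_ker (k ^ (3 * n)) (hk.pow _) (by rw [map_pow, h])
  have h1 := m.nr (k ^ n) (hk.pow n) a (by rw [← pow_mul, mul_comm, ha])
  rw [ha, h1, m.X_zero]

theorem exists_lift {A : GL12} (hA : A ∈ W) {n : ℕ} (hn : (n : ZMod 3) ≠ 0) (h : A ^ n = 1) :
    ∃ k, m.K k ∧ m.R k = A ∧ k ^ n = 1 := by
  obtain ⟨k, hk, rfl⟩ := m.R_surj A hA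
  obtain ⟨a, ha⟩ := m.R_ker (k ^ n) (K.pow hk _) (by rw [map_pow, h])
  refine ⟨k * m.X (-(n * a)), K.mul_X hk _, by rw [map_mul, m.R_X, mul_one], ?_⟩
  rw [(m.X_comm _ k).mul_pow, ha, m.X_pow, ← m.X_add]
  have h1 : ∀ n a : ZMod 3, n ≠ 0 → a + n * -(n * a) = 0 := by decide
  rw [h1 _ _ hn, m.X_zero]

/-- an involution whose image commutes with the image of `k` commutes with `k` -/
theorem comm_of_inv {k y : D} (hk : m.K k) (hy : m.K y) (hy2 : y ^ 2 = 1) (h : m.R k * m.R y = m.R y * m.R k) :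
    k * y = y * k := by
  obtain ⟨a, ha⟩ := conj_of_comm hk hy h
  have h1 : k * y = y * k * m.X a := by rw [mul_assoc, ← ha]; group
  have h2 : k * y ^ 2 = y ^ 2 * k * m.X (a + a) := by
    rw [pow_two, ← mul_assoc, h1, mul_assoc _ (m.X a), ← m.X_cen, ← mul_assoc, mul_assoc y k y, h1, m.X_add]
    group
  rw [hy2, mul_one, one_mul, left_eq_mul] at h2
  rw [h1, z3_two a (m.X_inj _ h2), m.X_zero, mul_one]

theorem comm_el {k y : D} (hy : m.K y) (h : k * y = y * k) {v : V12} (hv : v ᵥ* (m.R y : M12) = v) (c : ZMod 3) :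
    m.el k v c * y = y * m.el k v c := by
  have h1 := conj_K hy k v c
  rw [hv, mul_assoc y⁻¹ k, h, inv_mul_cancel_left] at h1
  rw [← h1]
  conv_lhs => rw [h1]
  group

/-- involutions with the same image are conjugate -/
theorem conj_inv {y g : D} (hy : m.K y) (hy2 : y ^ 2 = 1) (hg : g ^ 2 = 1) (h : m.R g = m.R y) :
    ∃ h : D, h⁻¹ * y * h = g := by
  obtain ⟨v, c, rfl⟩ := exists_el hy h
  rw [el_pow hy, hy2] at hg
  obtain ⟨h1, h2⟩ := el_inj m.K_one (hg.trans (el_zero_zero (m := m) 1).symm)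
  simp only [ps, pq, zero_vecMul, zero_add, fm_zero_left] at h1 h2
  have h3 : v ᵥ* (m.R y : M12) = -v := eq_neg_of_add_eq_zero_left h1
  rw [h3, fm_neg_left, fm_self, neg_zero, zero_add, Nat.cast_ofNat, two_mul] at h2
  refine ⟨m.β (-v), ?_⟩
  conv_lhs => rw [← el_zero_zero (m := m) y]
  rw [conj_β hy, neg_vecMul, h3, neg_neg, z3_two c h2, fm_zero_right, zero_sub v, fm_self, zero_add, zero_add,
    sub_zero]
  congr 1
  funext j
  have h4 : ∀ a : ZMod 3, -a - a = a := by decide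
  exact h4 _

/-- the order of the group -/
theorem card_eq [Finite D] (m : Mod D) : Nat.card D = 896690995200 * 3 ^ 13 := by
  have h1 : m.R.range = W := by
    apply le_antisymm
    · rintro _ ⟨g, rfl⟩
      exact m.R_mem g
    · intro A hA
      obtain ⟨k, -, hk⟩ := m.R_surj A hA
      exact ⟨k, hk⟩
  have h2 : Nat.card (V12 × ZMod 3) = Nat.card m.R.ker := by
    refine Nat.card_congr (Equiv.ofBijective (fun p => ⟨m.el 1 p.1 p.2, by
      rw [MonoidHom.mem_ker, R_el, map_one]⟩) ⟨fun p q h => ?_, fun g => ?_⟩)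
    · obtain ⟨h3, h4⟩ := el_inj m.K_one (congrArg Subtype.val h)
      exact Prod.ext h3 h4
    · obtain ⟨v, c, h⟩ := exists_el (m := m) (g := g) m.K_one (by rw [map_one]; exact g.2)
      exact ⟨(v, c), Subtype.ext h.symm⟩
  rw [Subgroup.card_eq_card_quotient_mul_card_subgroup m.R.ker,
    Nat.card_congr (QuotientGroup.quotientKerEquivRange m.R).toEquiv, h1, card_W, ← h2, Nat.card_prod, card_rows,
    Nat.card_zmod]
  norm_num

/-- **Counting over a class of `W`.** -/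
theorem count [Finite D] {P : D → Prop} (hP : ∀ g h, P g → P (h⁻¹ * g * h)) {k : D} (hk : m.K k) {c n : ℕ}
    (hc : CW (m.R k) ≤ c) (hn : n ≤ Nat.card {p : V12 × ZMod 3 // P (m.el k p.1 p.2)}) :
    896690995200 / c * n ≤ Nat.card {g : D // P g} := by
  let A : W := ⟨m.R k, m.R_mem k⟩
  have h1 : Nat.card (Subgroup.centralizer ({A} : Set W)) ≤ c := by
    refine le_trans (Nat.card_le_card_of_injective (β := ↥(W ⊓ Subgroup.centralizer ({m.R k} : Set GL12)))
      (fun B => ⟨B.1, B.1.2, Subgroup.mem_centralizer_singleton_iff.2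
        (congrArg Subtype.val (Subgroup.mem_centralizer_singleton_iff.1 B.2))⟩) fun B B' h => ?_) hc
    exact Subtype.ext (Subtype.ext (congrArg
      (fun t : ↥(W ⊓ Subgroup.centralizer ({m.R k} : Set GL12)) => (t : GL12)) h))
  have h2 := Eng.div_le_class h1
  rw [card_W] at h2
  refine (Nat.mul_le_mul h2 hn).trans ?_
  rw [← Nat.card_prod]
  have h3 : ∀ B : {B : W // IsConj A B}, ∃ l : D, m.R (l⁻¹ * k * l) = (B.1 : GL12) := fun B => by
    obtain ⟨C, hC⟩ := isConj_iff.1 B.2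
    obtain ⟨l, -, hl⟩ := m.R_surj _ (C⁻¹).2
    refine ⟨l, ?_⟩
    rw [map_mul, map_mul, map_inv, hl, ← hC]
    simp [A]
  choose l hl using h3
  refine Nat.card_le_card_of_injective (fun q => ⟨(l q.1)⁻¹ * m.el k q.2.1.1 q.2.1.2 * l q.1, hP _ _ q.2.2⟩) ?_
  rintro ⟨B, p⟩ ⟨B', p'⟩ h
  have h4 : (l B)⁻¹ * m.el k p.1.1 p.1.2 * l B = (l B')⁻¹ * m.el k p'.1.1 p'.1.2 * l B' := congrArg Subtype.val h
  have h5 : B = B' := by
    have h6 := congrArg m.R h4
    rw [map_mul, map_mul, R_el, ← map_mul, ← map_mul, hl, map_mul, map_mul, R_el, ← map_mul, ← map_mul, hl] at h6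
    exact Subtype.ext (Subtype.ext h6)
  subst h5
  rw [mul_left_inj, mul_right_inj] at h4
  obtain ⟨h6, h7⟩ := el_inj hk h4
  exact Prod.ext rfl (Subtype.ext (Prod.ext h6 h7))

end Mod

/-- the rows of the form `w - w A` -/
def Im (A : M12) (y : V12) : Prop := ∃ w, y = w - w ᵥ* A

theorem card_Im {A : M12} {f : ℕ} (hf : f ≤ 12) (h : Nat.card {u : V12 // u ᵥ* A = u} ≤ 3 ^ f) :
    3 ^ (12 - f) ≤ Nat.card {y : V12 // Im A y} := by
  let L : V12 →+ V12 := AddMonoidHom.mk' (fun w => w - w ᵥ* A) fun a b => by rw [add_vecMul]; abel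
  have h1 := AddSubgroup.card_eq_card_quotient_mul_card_addSubgroup L.ker
  rw [Nat.card_congr (QuotientAddGroup.quotientKerEquivRange L).toEquiv, card_rows] at h1
  have h2 : Nat.card L.range = Nat.card {y : V12 // Im A y} :=
    Nat.card_congr (Equiv.subtypeEquivRight fun y => ⟨fun ⟨w, hw⟩ => ⟨w, hw.symm⟩, fun ⟨w, hw⟩ => ⟨w, hw.symm⟩⟩)
  have h3 : Nat.card L.ker = Nat.card {u : V12 // u ᵥ* A = u} :=
    Nat.card_congr (Equiv.subtypeEquivRight fun u => by
      show u - u ᵥ* A = 0 ↔ _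
      rw [sub_eq_zero, eq_comm])
  rw [h2, h3] at h1
  have h4 : 3 ^ (12 - f) * 3 ^ f ≤ Nat.card {y : V12 // Im A y} * 3 ^ f := by
    rw [← pow_add, Nat.sub_add_cancel hf, h1]
    exact Nat.mul_le_mul_left _ h
  exact Nat.le_of_mul_le_mul_right h4 (by positivity)

namespace Mod

variable {D : Type*} [Group D] {m : Mod D} {P : D → Prop}

/-- the conjugates under `N` -/
theorem fib_one (hP : ∀ g h, P g → P (h⁻¹ * g * h)) {k : D} (hk : m.K k) (h : P k) {f : ℕ} (hf : f ≤ 12)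
    (hF : Nat.card {u : V12 // u ᵥ* (m.R k : M12) = u} ≤ 3 ^ f) :
    3 ^ (12 - f) ≤ Nat.card {p : V12 × ZMod 3 // P (m.el k p.1 p.2)} := by
  refine (card_Im hf hF).trans ?_
  have h1 : ∀ y : {y : V12 // Im (m.R k : M12) y}, ∃ c, P (m.el k y c) := fun y => by
    obtain ⟨w, hw⟩ := y.2
    have h2 := hP _ (m.β w) h
    rw [← el_zero_zero (m := m) k, conj_β hk, zero_add, ← hw] at h2
    exact ⟨_, h2⟩
  choose c hc using h1
  exact Nat.card_le_card_of_injective (fun y => ⟨(y, c y), hc y⟩) fun y y' e =>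
    Subtype.ext (congrArg (fun p => p.1.1) e)

/-- full cosets -/
theorem fib_many (hP : ∀ g h, P g → P (h⁻¹ * g * h)) {k : D} (hk : m.K k) {f : ℕ} (hf : f ≤ 12)
    (hF : Nat.card {u : V12 // u ᵥ* (m.R k : M12) = u} ≤ 3 ^ f) {Φ : M12} (hΦ : (m.R k : M12) * Φ = Φ)
    {L : List V12} (hL : ∀ v ∈ L, ∀ c, P (m.el k v c)) (hn : (L.map fun v => v ᵥ* Φ).Nodup) :
    L.length * 3 ^ (12 - f) * 3 ≤ Nat.card {p : V12 × ZMod 3 // P (m.el k p.1 p.2)} := by
  refine (Nat.mul_le_mul_right _ (Nat.mul_le_mul_left _ (card_Im hf hF))).trans ?_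
  have h0 : L.length * Nat.card {y : V12 // Im (m.R k : M12) y} * 3 =
      Nat.card ((Fin L.length × {y : V12 // Im (m.R k : M12) y}) × ZMod 3) := by
    rw [Nat.card_prod, Nat.card_prod, Nat.card_zmod, Nat.card_eq_fintype_card (α := Fin _), Fintype.card_fin]
  rw [h0]
  have h1 : ∀ v ∈ L, ∀ y, Im (m.R k : M12) y → ∀ c, P (m.el k (v + y) c) := by
    rintro v hv _ ⟨w, rfl⟩ c
    have h2 := hP _ (m.β w) (hL v hv (c - (fm (v - w ᵥ* (m.R k : M12)) w - fm (w ᵥ* (m.R k : M12)) v)))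
    rwa [conj_β hk, sub_add_cancel] at h2
  have h2 : ∀ v y, Im (m.R k : M12) y → (v + y) ᵥ* Φ = v ᵥ* Φ := by
    rintro v _ ⟨w, rfl⟩
    rw [add_vecMul, sub_vecMul, vecMul_vecMul, hΦ, sub_self, add_zero]
  refine Nat.card_le_card_of_injective (fun q => ⟨(L[q.1.1] + q.1.2, q.2), h1 _ (List.getElem_mem _) _ q.1.2.2 _⟩) ?_
  rintro ⟨⟨i, y⟩, c⟩ ⟨⟨j, y'⟩, c'⟩ e
  have e1 : L[i] + (y : V12) = L[j] + y' := congrArg (fun p => p.1.1) e
  have e2 : c = c' := congrArg (fun p => p.1.2) e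
  have e3 : i = j := by
    have e4 := congrArg (fun v => v ᵥ* Φ) e1
    simp only [h2 _ _ y.2, h2 _ _ y'.2] at e4
    have e5 := (List.Nodup.getElem_inj_iff hn (i := i) (j := j) (hi := by simp) (hj := by simp)).1 (by simpa using e4)
    exact Fin.ext e5
  subst e3 e2
  rw [Subtype.ext (add_left_cancel e1)]

/-- all the elements over `(A, v)` have the property `P` -/
def All (m : Mod D) (P : D → Prop) (A : GL12) (v : V12) : Prop := ∀ k, m.K k → m.R k = A → ∀ c, P (m.el k v c)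

theorem All.move (hP : ∀ g h, P g → P (h⁻¹ * g * h)) {A A' B : GL12} {v : V12} (h : m.All P A v) (hB : B ∈ W)
    (e : A * B = B * A') : m.All P A' (v ᵥ* (B : M12)) := by
  intro k hk hA c
  obtain ⟨l, hl, rfl⟩ := m.R_surj B hB
  have h1 := hP _ l (h (l * k * l⁻¹) ((K.mul hl hk).mul (K.inv hl)) (by
    rw [map_mul, map_mul, map_inv, hA, ← e, mul_inv_cancel_right]) c)
  rw [conj_K hl] at h1
  have h2 : l⁻¹ * (l * k * l⁻¹) * l = k := by group
  rwa [h2] at h1

theorem All.shift (hP : ∀ g h, P g → P (h⁻¹ * g * h)) {A : GL12} {v : V12} (h : m.All P A v) (w : V12) :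
    m.All P A (v + (w - w ᵥ* (A : M12))) := by
  rintro k hk rfl c
  have h2 := hP _ (m.β w) (h k hk rfl (c - (fm (v - w ᵥ* (m.R k : M12)) w - fm (w ᵥ* (m.R k : M12)) v)))
  rwa [conj_β hk, sub_add_cancel] at h2

theorem All.of_one (hP : ∀ g h, P g → P (h⁻¹ * g * h)) {k : D} (hk : m.K k) {v w : V12}
    (hw : w ᵥ* (m.R k : M12) = w) (hvw : fm v w ≠ 0) {c : ZMod 3} (h : P (m.el k v c)) : m.All P (m.R k) v := by
  intro l hl hA d
  obtain ⟨a, ha⟩ := m.R_ker (k⁻¹ * l) (hk.inv.mul hl) (by rw [map_mul, map_inv, hA, inv_mul_cancel])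
  have h1 : l = k * m.X a := by rw [← ha, mul_inv_cancel_left]
  obtain ⟨g, hg⟩ := conj_X hk hw hvw c (a + d)
  rw [h1, el_mul_X, ← hg]
  exact hP _ _ h

end Mod

theorem CW_conj {A A' B : GL12} (hB : B ∈ W) (e : A * B = B * A' ∨ A * B = -(B * A')) : CW A' ≤ CW A := by
  unfold CW
  refine Nat.card_le_card_of_injective (fun C => ⟨B * C * B⁻¹, W.mul_mem (W.mul_mem hB C.2.1) (W.inv_mem hB), ?_⟩)
    fun C C' h => Subtype.ext ?_
  · have h1 : (C : GL12) * A' = A' * C := Subgroup.mem_centralizer_singleton_iff.1 C.2.2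
    refine Subgroup.mem_centralizer_singleton_iff.2 ?_
    have h2 : B * C * B⁻¹ * (B * A' * B⁻¹) = B * A' * B⁻¹ * (B * C * B⁻¹) := by
      calc _ = B * (C * A') * B⁻¹ := by group
        _ = _ := by rw [h1]; group
    rcases e with e | e
    · rw [← eq_mul_inv_iff_mul_eq] at e
      rw [e, h2]
    · rw [← eq_mul_inv_iff_mul_eq] at e
      rw [e, neg_mul, mul_neg, neg_mul, h2]
  · have h1 : B * C * B⁻¹ = B * C' * B⁻¹ := congrArg Subtype.val h
    simpa using h1

end Cfsg.Agent.TAB.C3B
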