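import Cfsg.Agent.TAB.C3B.Pin
import Cfsg.Agent.TAB.C3B.Ident
import Cfsg.Agent.TAB.M7.Tool
import Cfsg.Agent.TAB.M4.Box
import Cfsg.Agent.TAB.C2B.Main
import Cfsg.Agent.TAB.M.Asm

/-!
# TAB / C(3B): the eleven boxes of the section of 3B (helper15)
-/

set_option autoImplicit false
set_option maxRecDepth 100000

namespace Cfsg.Agent.TAB.C3B

open Cfsg Cfsg.Agent.TAB.Eng Cfsg.Agent.TAB.M Cfsg.Agent.TAB.M7 Cfsg.Agent.BpSpor.MBigModel
open Cfsg.Agent.H199.NSmMon (Ev)
open Subgroup (centralizer mem_centralizer_singleton_iff)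

theorem vl6 : vals 6 = [[(1, -2), (2, 54), (3, 4372)], [(1, 0), (2, 0), (3, 276)], [(1, 6), (2, 54), (3, 276)],
    [(1, 15), (2, 783), (3, 276)], [(1, 78), (2, 54), (3, 276)], [(1, 79), (2, 783), (3, 4372)]] := by decide +kernel

theorem vl9 : vals 9 = [[(1, 0), (3, 54)], [(1, 27), (3, 54)]] := by decide +kernel

theorem vl12 : vals 12 = [[(1, -2), (2, -2), (3, 52), (4, 54), (6, 4372)], [(1, -1), (2, 15), (3, 20), (4, 783), (6, 276)],
    [(1, 0), (2, 0), (3, -12), (4, 0), (6, 276)], [(1, 0), (2, 0), (3, 276), (4, 0), (6, 276)],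
    [(1, 2), (2, 6), (3, 20), (4, 54), (6, 276)], [(1, 6), (2, 6), (3, 276), (4, 54), (6, 276)],
    [(1, 6), (2, 78), (3, -12), (4, 54), (6, 276)], [(1, 7), (2, 79), (3, 52), (4, 783), (6, 4372)],
    [(1, 14), (2, 6), (3, 20), (4, 54), (6, 276)], [(1, 15), (2, 15), (3, 276), (4, 783), (6, 276)]] := by
  decide +kernel

theorem vl18 : vals 18 = [[(1, -2), (2, 0), (3, -2), (6, 54), (9, 4372)], [(1, 0), (2, 0), (3, 6), (6, 54), (9, 276)],
    [(1, 3), (2, 27), (3, 6), (6, 54), (9, 276)], [(1, 6), (2, 0), (3, 6), (6, 54), (9, 276)],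
    [(1, 7), (2, 27), (3, -2), (6, 54), (9, 4372)]] := by decide +kernel

theorem vl24 : vals 24 = [[(1, -1), (2, -1), (3, -4), (4, 15), (6, 20), (8, 783), (12, 276)],
    [(1, 0), (2, -2), (3, 0), (4, -2), (6, 52), (8, 54), (12, 4372)],
    [(1, 0), (2, 0), (3, 0), (4, 0), (6, -12), (8, 0), (12, 276)],
    [(1, 0), (2, 0), (3, 12), (4, 0), (6, 276), (8, 0), (12, 276)],
    [(1, 0), (2, 2), (3, 36), (4, 6), (6, 20), (8, 54), (12, 276)],
    [(1, 0), (2, 6), (3, 0), (4, 78), (6, -12), (8, 54), (12, 276)],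
    [(1, 2), (2, 14), (3, -4), (4, 6), (6, 20), (8, 54), (12, 276)],
    [(1, 3), (2, -1), (3, 36), (4, 15), (6, 20), (8, 783), (12, 276)],
    [(1, 3), (2, 15), (3, 12), (4, 15), (6, 276), (8, 783), (12, 276)],
    [(1, 4), (2, 2), (3, 4), (4, 6), (6, 20), (8, 54), (12, 276)]] := by decide +kernel

theorem vl36 : vals 36 = [[(1, 0), (2, 0), (3, 6), (4, 0), (6, 6), (9, 276), (12, 54), (18, 276)],
    [(1, 1), (2, 7), (3, -2), (4, 27), (6, -2), (9, 52), (12, 54), (18, 4372)],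
    [(1, 2), (2, 0), (3, 2), (4, 0), (6, 6), (9, 20), (12, 54), (18, 276)],
    [(1, 3), (2, 3), (3, 6), (4, 27), (6, 6), (9, 276), (12, 54), (18, 276)]] := by decide +kernel

theorem vl54 : vals 54 = [] := by decide +kernel

theorem row {g : MG} (h : Ev g) {n : ℕ} (hn : orderOf g = n) {L : List (List (ℕ × ℤ))} (hL : vals n = L) {Q : Prop}
    (hQ : ∀ l ∈ L, (∀ p ∈ l, ch (g ^ p.1) = p.2) → Q) : Q := by
  obtain ⟨l, h1, h2⟩ := ev_vals C2B.cover h hn hL
  exact hQ l h1 h2

theorem ev6 {g : MG} (h : Ev g) (hn : orderOf g = 6) (h2 : ch (g ^ 2) = 54) (h3 : ch (g ^ 3) = 4372) : ch g = -2 := by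
  refine row h hn vl6 ?_
  simp only [List.forall_mem_cons, List.not_mem_nil, false_imp_iff, implies_true, and_true, pow_one]
  omega

theorem ev9 {g : MG} (h : Ev g) (hn : orderOf g = 9) : ch g = 0 ∨ ch g = 27 := by
  refine row h hn vl9 ?_
  simp only [List.forall_mem_cons, List.not_mem_nil, false_imp_iff, implies_true, and_true, pow_one]
  omega

theorem ev12 {g : MG} (h : Ev g) (hn : orderOf g = 12) (h2 : ch (g ^ 4) = 54) (h3 : ch (g ^ 6) = 4372) :
    ch g = -2 ∧ ch (g ^ 2) = -2 ∧ ch (g ^ 3) = 52 := by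
  refine row h hn vl12 ?_
  simp only [List.forall_mem_cons, List.not_mem_nil, false_imp_iff, implies_true, and_true, pow_one]
  omega

theorem ev18 {g : MG} (h : Ev g) (hn : orderOf g = 18) (h3 : ch (g ^ 9) = 4372) :
    ch (g ^ 3) = -2 ∧ (ch g = -2 ∧ ch (g ^ 2) = 0 ∨ ch g = 7 ∧ ch (g ^ 2) = 27) := by
  refine row h hn vl18 ?_
  simp only [List.forall_mem_cons, List.not_mem_nil, false_imp_iff, implies_true, and_true, pow_one]
  omega

theorem ev24 {g : MG} (h : Ev g) (hn : orderOf g = 24) (h3 : ch (g ^ 12) = 4372) :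
    ch g = 0 ∧ ch (g ^ 2) = -2 ∧ ch (g ^ 3) = 0 ∧ ch (g ^ 4) = -2 ∧ ch (g ^ 6) = 52 := by
  refine row h hn vl24 ?_
  simp only [List.forall_mem_cons, List.not_mem_nil, false_imp_iff, implies_true, and_true, pow_one]
  omega

theorem ev36 {g : MG} (h : Ev g) (hn : orderOf g = 36) (h3 : ch (g ^ 18) = 4372) :
    ch g = 1 ∧ ch (g ^ 2) = 7 ∧ ch (g ^ 3) = -2 ∧ ch (g ^ 4) = 27 ∧ ch (g ^ 6) = -2 ∧ ch (g ^ 9) = 52 := by
  refine row h hn vl36 ?_
  simp only [List.forall_mem_cons, List.not_mem_nil, false_imp_iff, implies_true, and_true, pow_one]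
  omega

theorem ev54 {g : MG} (h : Ev g) : orderOf g ≠ 54 := fun hn => row h hn vl54 fun _ h => absurd h List.not_mem_nil

theorem ev_two' {y g : MG} (h1 : y ^ 2 = 1) (h2 : y ≠ 1) (h3 : ch y ≠ 4372) (h4 : g * y = y * g) : Ev g := by
  have hp : Fact (Nat.Prime 2) := ⟨Nat.prime_two⟩
  rcases cls (orderOf_eq_prime h1 h2) with ⟨c, hc⟩ | h5
  · exact ⟨c, by rw [hc, h4]⟩
  · exact absurd (ch_of_chr (a := 4372) (by rw [M4.chr_ta h5]; norm_num)) h3

/-- the hypotheses of `Pin` hold for every model of a subgroup with the right involution and centre -/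
theorem env {C : Subgroup MG} (m : Mod ↥C) (hz : (m.z : MG) = zz) (hx : ch (m.X 1 : MG) = 54) :
    Env m (fun g => ch (g : MG)) (fun g => Ev (g : MG)) where
  char := by
    have h := Characters.Core.isCharacter_comp C.subtype isChar
    have e : ((fun g : MG => ((LThreeMBTr.chr MonsterX.Space.V g : ℚ) : ℂ)) ∘ C.subtype) =
        fun g : C => ((ch (g : MG) : ℤ) : ℂ) := by
      funext g
      show ((LThreeMBTr.chr MonsterX.Space.V (g : MG) : ℚ) : ℂ) = _
      rw [chr_eq_ch, Rat.cast_intCast]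
    rwa [e] at h
  one := ch_one
  x := hx
  E_z := fun g hg => ev_of_comm (by rw [← hz]; exact congrArg Subtype.val hg)
  E_two := fun y g h1 h2 h3 h4 =>
    ev_two' (congrArg Subtype.val h1) (fun h => h2 (Subtype.ext h)) h3 (congrArg Subtype.val h4)
  E_three := fun y g h1 h2 h3 h4 =>
    LThreeM.FiRow.exists_z_of_comm (x := (g : MG)) (v := (y : MG)) (congrArg Subtype.val h3)
      (by rw [← pow_two]; exact congrArg Subtype.val h1) (fun h => h2 (Subtype.ext h)) (congrArg Subtype.val h4)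
  c3 := fun g h hn => ev_three C2B.cover h (by rw [Subgroup.orderOf_coe, hn])
  c6 := fun g h hn => ev6 h (by rw [Subgroup.orderOf_coe, hn])
  c9 := fun g h hn => ev9 h (by rw [Subgroup.orderOf_coe, hn])
  c12 := fun g h hn => ev12 h (by rw [Subgroup.orderOf_coe, hn])
  c18 := fun g h hn => ev18 h (by rw [Subgroup.orderOf_coe, hn])
  c24 := fun g h hn => ev24 h (by rw [Subgroup.orderOf_coe, hn])
  c36 := fun g h hn => ev36 h (by rw [Subgroup.orderOf_coe, hn])
  c54 := fun g h hn => ev54 h (by rw [Subgroup.orderOf_coe, hn])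

/-- **The model of `C(3B)` with the values of the trace.** -/
theorem exists_env : ∃ (C : Subgroup MG) (m : Mod ↥C), (m.z : MG) = zz ∧ centralizer ({(m.X 1 : MG)} : Set MG) = C ∧
    Env m (fun g => ch (g : MG)) (fun g => Ev (g : MG)) := by
  have := finite
  obtain ⟨x, m, hx, hfr, h1, h2⟩ := exists_mod'
  have h3 : ch (x : MG) = 54 := ch_of_chr (a := 54) (by rw [M4.chr_zero hx hfr]; norm_num)
  refine ⟨_, m, h1, ?_, env m h1 ?_⟩
  · rcases h2 with h | h
    · rw [h]
    · rw [h]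
      ext g
      rw [mem_centralizer_singleton_iff, mem_centralizer_singleton_iff]
      exact Commute.inv_right_iff
  · rcases h2 with h | h
    · rw [h, h3]
    · rw [h, ch_of_zpowers (Subgroup.inv_mem _ (Subgroup.mem_zpowers _)) (orderOf_inv _), h3]

theorem box_of {C : Subgroup MG} {m : Mod ↥C} (hC : centralizer ({(m.X 1 : MG)} : Set MG) = C) {i e n N : ℕ}
    {l : List (ℕ × ℤ)} (hs : sg dat val i = (3 * e, l)) (hN : dat.cnt i = N)
    (hn : n ≤ Nat.card {g : C // Gd m (fun g => ch (g : MG)) e l g})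
    (h : N ≤ 808017424794512875886459904961710757005754368000000000 / (896690995200 * 3 ^ 13) * n) : BoxM i := by
  have := finite
  refine Box.of_pow (x := (m.X 1 : MG)) (k := e) (c := 896690995200 * 3 ^ 13) (m := n) ?_ (hn.trans ?_)
    (by rw [hN, card_M]; exact h)
  · rw [hC, m.card_eq]
  · refine Nat.card_le_card_of_injective
      (fun g => ⟨(g.1 : MG), (tyM_iff' hs _).2 ⟨by rw [Subgroup.orderOf_coe, g.2.1.1], g.2.1.2⟩,
        congrArg Subtype.val g.2.2⟩) fun g h h1 => ?_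
    exact Subtype.ext (Subtype.ext (congrArg (fun a : {g : MG // Ty key dat val i g ∧ g ^ e = m.X 1} => a.1) h1))

theorem boxC_3B : BoxCM 4 := by
  have := finite
  obtain ⟨C, m, -, hC, H⟩ := exists_env
  refine BoxC.of_le (x := (m.X 1 : MG)) (c := 896690995200 * 3 ^ 13) ((tyM_iff' sg_3B _).2 ⟨?_, ?_⟩)
    (by rw [hC, m.card_eq]) (by rw [cnt_3B, card_M]; norm_num)
  · rw [Subgroup.orderOf_coe]
    exact ord_X (e := 1) (by norm_num) (pow_one _) (by norm_num)
  · simp only [List.forall_mem_cons, List.not_mem_nil, false_imp_iff, implies_true, and_true, pow_one]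
    exact H.x

/-- **The boxes of the section of 3B.** -/
theorem box3 : Box3 := by
  have := finite
  obtain ⟨C, m, -, hC, H⟩ := exists_env
  refine ⟨boxC_3B, ?_⟩
  simp only [List.forall_mem_cons, List.not_mem_nil, false_imp_iff, implies_true, and_true]
  exact ⟨box_of hC sg_6D cnt_6D H.n6 (by norm_num), box_of hC sg_9A cnt_9A H.n9a (by norm_num),
    box_of hC sg_9B cnt_9B H.n9b (by norm_num), box_of hC sg_12G cnt_12G H.n12 (by norm_num),
    box_of hC sg_18A cnt_18A H.n18a (by norm_num), box_of hC sg_18B cnt_18B H.n18b (by norm_num),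
    box_of hC sg_24G cnt_24G H.n24 (by norm_num), box_of hC sg_27AB cnt_27AB H.n27 (by norm_num),
    box_of hC sg_36C cnt_36C H.n36 (by norm_num), box_of hC sg_54A cnt_54A H.n54 (by norm_num)⟩

end Cfsg.Agent.TAB.C3B
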