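import Cfsg.Agent.TAB.C3B.Defs
import Cfsg.Agent.H123.Cls.SuzOre

/-!
# TAB / C(3B): ten centralizers in `2Suz` (helper86, task 273)

`cenBox : CenBox`.  The certificates of `H123.Cls.SuzDat` bound the centralizers in the automorphism group of the graph
on 1782 points.  An odd automorphism `T * ψ w` in the centralizer gives a factor two, and so does an element of `2Suz`
that conjugates the matrix to its negative.
-/

set_option autoImplicit false
set_option maxRecDepth 100000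
set_option exponentiation.threshold 5000
set_option Elab.async false

namespace Cfsg.Agent.TAB.C3B.Cen

open Cfsg Cfsg.Geo Cfsg.Spor Subgroup Cfsg.Agent.H123.Cls Cfsg.Agent.Lib.BitNet
open Cfsg.Agent.H920.Sz12 (φ φ_of W G M QQ gb gm pos mk_prod mem_W eqB word_neg card_scalars neg_one_mem I12)
open Cfsg.Agent.H123.Cls.SuzDat (gn gens comm_tab row)
open Cfsg.Agent.H763.Ore.SuzModel (A N N_le_A T_mem_A)
open Cfsg.Agent.H763.Ore.SuzTab (A_le_Aut)
open Cfsg.Agent.OddHalf.Table.SuzRep (ψ ψ_val ψ_injective pn pn_perm oT)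
open Cfsg.Agent.OddHalf.Table.OutSuz (sign_ψ sign_T)
open Cfsg.Agent.OddHalf.Table.SuzGraph (T okT)
open Cfsg.Agent.OddHalf.Table.SuzNets (nT)
open Cfsg.Agent.SporadicRecognition.SuzPhi (wd wd_ok)
open Cfsg.Agent.SporadicRecognition.SuzOrder (el φ_el)
open Cfsg.Agent.Lib.PermNet (WOk wperm checkEq wperm_eq_of_checkEq wperm_cons wperm_append)

/-- a proper subgroup has at most half of the elements -/
theorem half {X : Type*} [Group X] {K H : Subgroup X} [Finite H] (h : K ≤ H) {x : X} (hx : x ∈ H) (hx' : x ∉ K) :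
    2 * Nat.card K ≤ Nat.card H := by
  obtain ⟨k, hk⟩ := card_dvd_of_le h
  have h0 : 0 < Nat.card H := Nat.card_pos
  have h2 : k ≠ 0 := by
    rintro rfl
    omega
  have h3 : k ≠ 1 := by
    rintro rfl
    exact hx' (eq_of_le_of_card_ge h (by rw [hk, mul_one]) ▸ hx)
  rw [hk, mul_comm]
  exact Nat.mul_le_mul_left _ (by omega)

/-- the element of `Suz` given by a word -/
noncomputable def sw (l : List ℕ) : Suz := el (l.map gn)

theorem sw_nil : sw [] = 1 := rfl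

theorem sw_cons (i : ℕ) (l : List ℕ) : sw (i :: l) = PresentedGroup.of (gn i) * sw l := by
  simp only [sw, el, List.map_cons, List.prod_cons]

theorem sw_append (l l' : List ℕ) : sw (l ++ l') = sw l * sw l' := by
  simp only [sw, el, List.map_append, List.prod_append]

theorem of_sq (x : Suz.Gen) : (PresentedGroup.of x : Suz) * PresentedGroup.of x = 1 := by
  apply H920.Sz12.φ_injective
  have h := H920.Sz12.cox x x
  have e : coxLabel Suz.edges x x = 1 := by cases x <;> rfl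
  rw [e, pow_one] at h
  have e2 : φ (PresentedGroup.of x) = gm x := φ_of x
  rw [map_mul, map_one, e2]
  exact h

theorem sw_reverse : ∀ l : List ℕ, sw l.reverse = (sw l)⁻¹
  | [] => by rw [List.reverse_nil, sw_nil, inv_one]
  | i :: l => by
    rw [List.reverse_cons, sw_append, sw_reverse l, sw_cons, sw_cons, sw_nil, mul_one, mul_inv_rev,
      inv_eq_of_mul_eq_one_right (of_sq (gn i))]

theorem sw_cmW (a b : List ℕ) : sw (cmW a b) = sw a * sw b * (sw a)⁻¹ * (sw b)⁻¹ := by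
  rw [cmW, sw_append, sw_append, sw_append, sw_reverse, sw_reverse]

theorem pos_gn {i : ℕ} (h : i < 7) : pos (gn i) = i := by
  interval_cases i <;> rfl

theorem φ_sw : ∀ l : List ℕ, (∀ i ∈ l, i < 7) → φ (sw l) = (QuotientGroup.mk (wG l) : QQ)
  | [], _ => by rw [sw_nil, map_one]; rfl
  | i :: l, h => by
    have e2 : φ (PresentedGroup.of (gn i)) = gm (gn i) := φ_of _
    have e3 : wG (i :: l) = G i * wG l := by simp only [wG, List.map_cons, List.prod_cons]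
    rw [sw_cons, map_mul, e2, φ_sw l fun j hj => h j (List.mem_cons_of_mem _ hj), e3, QuotientGroup.mk_mul, gm,
      pos_gn (h i List.mem_cons_self), gb]

/-- the order of the centralizer in `Suz` -/
noncomputable def CS (s : Suz) : ℕ := Nat.card (centralizer ({s} : Set Suz))

/-- the preimage of the centralizer -/
noncomputable def PC (s : Suz) : Subgroup GL12 :=
  ((centralizer ({s} : Set Suz)).map φ).comap (QuotientGroup.mk' (scalars I12 (ZMod 3)))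

theorem card_PC (s : Suz) : Nat.card (PC s) = 2 * CS s := by
  set H := (centralizer ({s} : Set Suz)).map φ with hH
  have h1 : (PC s).index = H.index :=
    H.index_comap_of_surjective (QuotientGroup.mk'_surjective (scalars I12 (ZMod 3)))
  have h2 : Nat.card H = CS s := card_map_of_injective H920.Sz12.φ_injective
  have h3 := (PC s).card_mul_index
  have h4 := H.card_mul_index
  have h5 := (scalars I12 (ZMod 3)).card_mul_index
  have h6 : (scalars I12 (ZMod 3)).index = Nat.card QQ := rfl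
  rw [card_scalars, h6, ← h4, h2] at h5
  rw [h1, ← h5] at h3
  have h8 : H.index ≠ 0 := Subgroup.index_ne_zero_of_finite
  have h9 : Nat.card (PC s) * H.index = 2 * CS s * H.index := by rw [h3, mul_assoc]
  exact Nat.eq_of_mul_eq_mul_right (Nat.pos_of_ne_zero h8) h9

theorem mem_PC {s : Suz} {X B : GL12} (hs : φ s = (QuotientGroup.mk X : QQ)) (hB : B ∈ W)
    (h : B * X = X * B ∨ B * X = -(X * B)) : B ∈ PC s := by
  obtain ⟨t, ht⟩ := mem_W.1 hB
  refine ⟨t, mem_centralizer_singleton_iff.2 (H920.Sz12.φ_injective ?_), ht⟩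
  rw [map_mul, map_mul, ht, hs, ← QuotientGroup.mk_mul, ← QuotientGroup.mk_mul]
  rcases h with h | h
  · rw [h]
  · rw [h, ← neg_one_mul, QuotientGroup.mk_mul, (QuotientGroup.eq_one_iff _).2 neg_one_mem, one_mul]

theorem inf_le_PC {s : Suz} {X : GL12} (hs : φ s = (QuotientGroup.mk X : QQ)) :
    W ⊓ centralizer ({X} : Set GL12) ≤ PC s := fun _ hB =>
  mem_PC hs hB.1 (Or.inl (mem_centralizer_singleton_iff.1 hB.2))

theorem cw_le {l : List ℕ} (hl : ∀ i ∈ l, i < 7) : CW (wG l) ≤ 2 * CS (sw l) := by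
  rw [← card_PC]
  exact card_le_of_le (inf_le_PC (φ_sw l hl))

theorem cw_le_neg {l u : List ℕ} (hl : ∀ i ∈ l, i < 7) (hu : ∀ i ∈ u, i < 7)
    (h : eqB M 2 (u ++ l) (l ++ u) = true) : CW (wG l) ≤ CS (sw l) := by
  have h1 : wG u * wG l = -(wG l * wG u) := by
    have h2 := word_neg h
    rw [List.map_append, List.map_append, List.prod_append, List.prod_append] at h2
    exact h2
  have h2 := half (inf_le_PC (φ_sw l hl)) (mem_PC (φ_sw l hl) (wG_mem hu) (Or.inr h1)) (by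
    intro h3
    have h4 := mem_centralizer_singleton_iff.1 h3.2
    rw [h4] at h1
    have h5 : (1 : GL12) = -1 := by
      rw [← mul_right_inj (wG l * wG u), mul_one, mul_neg, mul_one]
      exact h1
    have h6 := congrArg (fun g : GL12 => (g : M12) (Sum.inl 0) (Sum.inl 0)) h5
    simp only [Units.val_one, Units.val_neg, Matrix.neg_apply, Matrix.one_apply_eq] at h6
    exact absurd h6 (by decide))
  rw [card_PC] at h2
  unfold CW
  omega

/-- the centralizer in the automorphism group of the graph -/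
noncomputable def CA (s : Suz) : Subgroup (Equiv.Perm (Fin 1782)) :=
  Aut 1782 row ⊓ centralizer ({ψ s} : Set (Equiv.Perm (Fin 1782)))

theorem card_CA {P c : ℕ} {a b : List ℕ} {l : List (Bool × ℕ)} {L : List H123.Cls.Ins}
    (h1 : chkC 1782 11 gens P a b = true) (h2 : chkB 1782 11 row 11 P l L c = true) :
    Nat.card (CA (sw (cmW a b))) ≤ c + 1 := by
  have hr : ∀ p : Fin 1782, (ψ (sw (cmW a b)) p : ℕ) = lk 11 P p := by
    rw [sw_cmW]
    exact comm_tab h1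
  refine card_le_bound (by norm_num) hr h2 inf_le_left fun σ hσ i => ?_
  have h3 := mem_centralizer_singleton_iff.1 hσ.2
  rw [← Equiv.Perm.mul_apply, h3, Equiv.Perm.mul_apply]

theorem map_le_CA (s : Suz) : (centralizer ({s} : Set Suz)).map ψ ≤ CA s := by
  rintro _ ⟨t, ht, rfl⟩
  refine ⟨A_le_Aut (N_le_A ⟨t, rfl⟩), mem_centralizer_singleton_iff.2 ?_⟩
  rw [← map_mul, ← map_mul, mem_centralizer_singleton_iff.1 ht]

theorem cs_le (s : Suz) : CS s ≤ Nat.card (CA s) := by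
  have h : Nat.card ((centralizer ({s} : Set Suz)).map ψ) = CS s := card_map_of_injective ψ_injective
  rw [← h]
  exact card_le_of_le (map_le_CA s)

/-- the odd permutation `T * ψ w` commutes with `ψ l` -/
noncomputable def chkO (w l : List ℕ) : Bool :=
  checkEq 11 (pn nT :: (wd (w.map gn) ++ wd (l.map gn))) (wd (l.map gn) ++ (pn nT :: wd (w.map gn)))

theorem comm_of_chkO {w l : List ℕ} (h : chkO w l = true) :
    T * ψ (sw w) * ψ (sw l) = ψ (sw l) * (T * ψ (sw w)) := by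
  have h1 := wperm_eq_of_checkEq (WOk.cons oT ((wd_ok _).append (wd_ok _)))
    ((wd_ok _).append (WOk.cons oT (wd_ok _))) h
  rw [wperm_cons, wperm_append, wperm_append, wperm_cons, ← φ_el, ← φ_el] at h1
  have hT : ∀ i : Fin 1782, (T i : ℕ) = (pn nT).perm i := fun i => (pn_perm okT oT i).symm
  ext i
  have h2 := congrArg (fun g : Equiv.Perm ℕ => g i) h1
  simp only [Equiv.Perm.mul_apply] at h2 ⊢
  rw [hT, ψ_val, ψ_val, ψ_val, hT, ψ_val]
  exact h2

theorem cs_le_odd {w l : List ℕ} (h : chkO w l = true) : 2 * CS (sw l) ≤ Nat.card (CA (sw l)) := by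
  have h0 : Nat.card ((centralizer ({sw l} : Set Suz)).map ψ) = CS (sw l) := card_map_of_injective ψ_injective
  rw [← h0]
  refine half (map_le_CA (sw l)) (x := T * ψ (sw w))
    ⟨A_le_Aut (A.mul_mem T_mem_A (N_le_A ⟨_, rfl⟩)), mem_centralizer_singleton_iff.2 (comm_of_chkO h)⟩ ?_
  rintro ⟨t, -, ht⟩
  have h1 := sign_ψ t
  rw [ht, map_mul, sign_T, sign_ψ] at h1
  exact absurd h1 (by decide)

theorem row_even {P c : ℕ} {a b : List ℕ} {l : List (Bool × ℕ)} {L : List H123.Cls.Ins}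
    (h1 : chkC 1782 11 gens P a b = true) (h2 : chkB 1782 11 row 11 P l L c = true) (h : ∀ i ∈ cmW a b, i < 7) :
    CW (wG (cmW a b)) ≤ 2 * (c + 1) :=
  (cw_le h).trans (Nat.mul_le_mul_left 2 ((cs_le _).trans (card_CA h1 h2)))

theorem row_odd {P c : ℕ} {a b w : List ℕ} {l : List (Bool × ℕ)} {L : List H123.Cls.Ins}
    (h1 : chkC 1782 11 gens P a b = true) (h2 : chkB 1782 11 row 11 P l L c = true) (h : ∀ i ∈ cmW a b, i < 7)
    (h3 : chkO w (cmW a b) = true) : CW (wG (cmW a b)) ≤ c + 1 :=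
  (cw_le h).trans ((cs_le_odd h3).trans (card_CA h1 h2))

theorem row_neg {P c : ℕ} {a b w u : List ℕ} {l : List (Bool × ℕ)} {L : List H123.Cls.Ins}
    (h1 : chkC 1782 11 gens P a b = true) (h2 : chkB 1782 11 row 11 P l L c = true) (h : ∀ i ∈ cmW a b, i < 7)
    (h3 : chkO w (cmW a b) = true) (hu : ∀ i ∈ u, i < 7) (h4 : eqB M 2 (u ++ cmW a b) (cmW a b ++ u) = true) :
    CW (wG (cmW a b)) ≤ (c + 1) / 2 := by
  have h5 := cw_le_neg h hu h4
  have h6 := (cs_le_odd h3).trans (card_CA h1 h2)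
  omega

theorem odd36 : chkO [6, 1, 2, 3, 4, 2, 3, 1, 2, 1, 0, 1, 6, 1, 0, 1, 2, 1, 5, 1, 2, 3, 2, 1, 4, 3, 2, 3, 4, 1, 2, 3, 0, 1, 2, 3, 4, 0, 1, 2, 3]
    (cmW [3] [4]) = true := by decide +kernel

theorem odd4 : chkO [6, 1, 2, 3, 1, 2, 0, 1, 6, 4, 5, 1, 0, 2, 1, 0, 3, 2, 3, 4, 5, 1, 2, 3, 4, 2, 3, 1, 2, 0, 1, 0, 1, 5, 4, 3, 2]
    (cmW [2] [1, 6, 5, 3, 1]) = true := by decide +kernel

theorem odd28 : chkO [3, 1, 2, 3, 4, 3, 1, 2, 3, 1, 2, 0, 1, 6, 0, 1, 3, 2, 1, 4, 5, 1, 2, 3, 2, 3, 4, 1, 2, 3, 0, 1, 2, 3, 1, 0, 1]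
    (cmW [4, 2] [3]) = true := by decide +kernel

theorem odd0 : chkO [5, 1, 6, 3, 2, 3, 4, 0, 1, 2, 3, 2, 1, 6, 2, 1, 0, 3, 2, 1, 5, 4, 3, 0, 1, 2, 3, 4, 1, 2, 3, 1]
    (cmW [5] [6]) = true := by decide +kernel

theorem odd24 : chkO [5, 6, 3, 2, 3, 4, 1, 2, 3, 1, 2, 0, 1, 6, 0, 1, 0, 1, 0, 2, 3, 2, 1, 0, 5, 4, 3, 1, 2, 3, 1, 2, 1, 0, 1, 5, 3, 4, 0]
    (cmW [2, 1, 5] [3, 1, 0]) = true := by decide +kernel

theorem neg24 : eqB M 2 ([1, 2, 3, 1, 2, 0, 1, 5, 1, 2, 3, 0, 1, 2, 1, 0] ++ cmW [2, 1, 5] [3, 1, 0])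
    (cmW [2, 1, 5] [3, 1, 0] ++ [1, 2, 3, 1, 2, 0, 1, 5, 1, 2, 3, 0, 1, 2, 1, 0]) = true := by decide +kernel

theorem odd33 : chkO [3, 1, 2, 3, 4, 0, 1, 2, 3, 2, 0, 1, 6, 0, 2, 1, 3, 2, 3, 4, 3, 2, 1, 0, 1, 2, 3, 2, 1, 5, 3, 4, 3, 2, 3, 1, 0, 1]
    (cmW [1, 6] [5, 2]) = true := by decide +kernel

theorem neg33 : eqB M 2 ([0, 1, 3, 2, 1, 0, 3, 4, 5, 1, 0, 2, 3, 4, 1, 2, 3, 2, 1, 5, 1, 0, 1, 2, 3, 1, 0] ++ cmW [1, 6] [5, 2])
    (cmW [1, 6] [5, 2] ++ [0, 1, 3, 2, 1, 0, 3, 4, 5, 1, 0, 2, 3, 4, 1, 2, 3, 2, 1, 5, 1, 0, 1, 2, 3, 1, 0]) = true := by decide +kernel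

theorem odd23 : chkO [3, 2, 3, 0, 1, 0, 1, 2, 3, 4, 1, 2, 3, 2, 1, 6, 1, 5, 1, 0, 2, 3, 2, 1, 0, 4, 3, 2, 1, 3, 2, 0, 1, 5, 3, 4, 0, 1, 2, 3, 2, 1, 5, 2]
    (cmW [4, 3, 0, 2, 1, 6, 0] [3, 6, 1, 2, 5, 4]) = true := by decide +kernel

theorem neg23 : eqB M 2 ([5, 6, 2, 3, 4, 1, 2, 3, 2, 1, 6, 1, 0, 5, 1, 2, 3, 2, 1, 3, 2, 4, 3, 2, 1, 0, 1, 5, 2, 3, 2, 1, 0, 1, 5, 2] ++ cmW [4, 3, 0, 2, 1, 6, 0] [3, 6, 1, 2, 5, 4])
    (cmW [4, 3, 0, 2, 1, 6, 0] [3, 6, 1, 2, 5, 4] ++ [5, 6, 2, 3, 4, 1, 2, 3, 2, 1, 6, 1, 0, 5, 1, 2, 3, 2, 1, 3, 2, 4, 3, 2, 1, 0, 1, 5, 2, 3, 2, 1, 0, 1, 5, 2]) = true := by decide +kernel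

theorem c36 : CW (wG (cmW [3] [4])) ≤ 19595520 :=
  (row_odd H123.Cls.SuzDat.cm36 H123.Cls.SuzDat.bd36 (by decide) odd36).trans (by norm_num)

theorem c4 : CW (wG (cmW [2] [1, 6, 5, 3, 1])) ≤ 69984 :=
  (row_odd H123.Cls.SuzDat.cm4 H123.Cls.SuzDat.bd4 (by decide) odd4).trans (by norm_num)

theorem c20 : CW (wG (cmW [6, 5, 3] [2, 1])) ≤ 108 :=
  (row_even H123.Cls.SuzDat.cm20 H123.Cls.SuzDat.bd20 (by decide)).trans (by norm_num)

theorem c21 : CW (wG (cmW [4, 2, 1] [6, 3, 5])) ≤ 36 :=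
  (row_even H123.Cls.SuzDat.cm21 H123.Cls.SuzDat.bd21 (by decide)).trans (by norm_num)

theorem c32 : CW (wG (cmW [5, 3, 1, 6] [1, 2])) ≤ 2592 :=
  (row_even H123.Cls.SuzDat.cm32 H123.Cls.SuzDat.bd32 (by decide)).trans (by norm_num)

theorem c28 : CW (wG (cmW [4, 2] [3])) ≤ 6912 :=
  (row_odd H123.Cls.SuzDat.cm28 H123.Cls.SuzDat.bd28 (by decide) odd28).trans (by norm_num)

theorem c24 : CW (wG (cmW [2, 1, 5] [3, 1, 0])) ≤ 48 :=
  (row_neg H123.Cls.SuzDat.cm24 H123.Cls.SuzDat.bd24 (by decide) odd24 (by decide) neg24).trans (by norm_num)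

theorem c0 : CW (wG (cmW [5] [6])) ≤ 6635520 :=
  (row_odd H123.Cls.SuzDat.cm0 H123.Cls.SuzDat.bd0 (by decide) odd0).trans (by norm_num)

theorem c33 : CW (wG (cmW [1, 6] [5, 2])) ≤ 1536 :=
  (row_neg H123.Cls.SuzDat.cm33 H123.Cls.SuzDat.bd33 (by decide) odd33 (by decide) neg33).trans (by norm_num)

theorem c23 : CW (wG (cmW [4, 3, 0, 2, 1, 6, 0] [3, 6, 1, 2, 5, 4])) ≤ 32 :=
  (row_neg H123.Cls.SuzDat.cm23 H123.Cls.SuzDat.bd23 (by decide) odd23 (by decide) neg23).trans (by norm_num)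

end Cfsg.Agent.TAB.C3B.Cen

namespace Cfsg.Agent.TAB.C3B

/-- **Task 273.** -/
theorem cenBox : CenBox :=
  ⟨Cen.c36, Cen.c4, Cen.c20, Cen.c21, Cen.c32, Cen.c28, Cen.c24, Cen.c0, Cen.c33, Cen.c23⟩

end Cfsg.Agent.TAB.C3B
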