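import Cfsg.Agent.TAB.C3B.Defs
import Cfsg.Agent.H920.Sz12.CoreP
import Cfsg.Agent.H937.G24.Row
import Cfsg.Agent.KFacts.OddLift.SuzCov
import Cfsg.Agent.H878.Sz.Cov

/-!
# TAB / C(3B): the projective representation of `Suz` of degree 12 over `ZMod 3` is unique (helper15)
-/

set_option autoImplicit false
set_option linter.style.haveILetI false

namespace Cfsg.Agent.TAB.C3B

open Matrix Cfsg Cfsg.Geo Cfsg.Spor Cfsg.Agent.H920.Sz12
open scoped commutatorElement

theorem perfect_cover {P : Type} [Group P] {T : Type} [Group T] (hT : commutator T = ⊤) {π : P →* T}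
    (hπ : Function.Surjective π) (hker : π.ker ≤ Subgroup.center P) :
    commutator ↥(commutator P) = ⊤ ∧ Function.Surjective (π.comp (commutator P).subtype) ∧
      (π.comp (commutator P).subtype).ker ≤ Subgroup.center ↥(commutator P) := by
  have h1 : ∀ t : T, ∃ c ∈ commutator P, π c = t := by
    intro t
    have h2 : t ∈ commutator T := by rw [hT]; exact Subgroup.mem_top _
    have h3 : (commutator P).map π = commutator T := by
      rw [commutator_def, Subgroup.map_commutator, ← MonoidHom.range_eq_map, MonoidHom.range_eq_top.2 hπ,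
        commutator_def]
    rw [← h3] at h2
    obtain ⟨c, hc, h4⟩ := h2
    exact ⟨c, hc, h4⟩
  have h2 : ∀ a : P, ∃ c ∈ commutator P, ∃ z ∈ Subgroup.center P, a = c * z := by
    intro a
    obtain ⟨c, hc, h3⟩ := h1 (π a)
    refine ⟨c, hc, c⁻¹ * a, hker ?_, by group⟩
    rw [MonoidHom.mem_ker, map_mul, map_inv, h3, inv_mul_cancel]
  refine ⟨?_, fun t => ?_, fun x hx => ?_⟩
  · have h3 : commutator P ≤ ⁅commutator P, commutator P⁆ := by
      conv_lhs => rw [commutator_def]
      rw [Subgroup.commutator_le]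
      intro a _ b _
      obtain ⟨c, hc, z, hz, rfl⟩ := h2 a
      obtain ⟨d, hd, w, hw, rfl⟩ := h2 b
      have hz' := Subgroup.mem_center_iff.1 hz
      have hw' := Subgroup.mem_center_iff.1 hw
      have h4 : ⁅c * z, d * w⁆ = ⁅c, d⁆ := by
        rw [commutatorElement_def, commutatorElement_def]
        calc c * z * (d * w) * (c * z)⁻¹ * (d * w)⁻¹ = c * (z * (d * w)) * z⁻¹ * (c⁻¹ * w⁻¹) * d⁻¹ := by group
          _ = c * (d * w * z) * z⁻¹ * (w * c)⁻¹ * d⁻¹ := by rw [← hz', _root_.mul_inv_rev]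
          _ = c * (d * w * z) * z⁻¹ * (c * w)⁻¹ * d⁻¹ := by rw [hw' c]
          _ = _ := by group
      rw [h4]
      exact Subgroup.commutator_mem_commutator hc hd
    rw [eq_top_iff]
    intro x _
    have h4 : (commutator ↥(commutator P)).map (commutator P).subtype = ⁅commutator P, commutator P⁆ := by
      rw [commutator_def (↥(commutator P)), Subgroup.map_commutator, ← MonoidHom.range_eq_map, Subgroup.range_subtype]
    have h5 : (x : P) ∈ (commutator ↥(commutator P)).map (commutator P).subtype := by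
      rw [h4]
      exact h3 x.2
    obtain ⟨y, hy, h6⟩ := h5
    rwa [← Subtype.ext h6]
  · obtain ⟨c, hc, h3⟩ := h1 t
    exact ⟨⟨c, hc⟩, h3⟩
  · rw [Subgroup.mem_center_iff]
    intro y
    apply Subtype.ext
    exact Subgroup.mem_center_iff.1 (hker (MonoidHom.mem_ker.2 (MonoidHom.mem_ker.1 hx))) y

theorem scalar_cases {a : GL12} (h : a ∈ scalars I12 (ZMod 3)) : a = 1 ∨ a = -1 := by
  obtain ⟨c, hc⟩ := (mem_scalars_iff a).1 h
  have h1 : ∀ c : (ZMod 3)ˣ, (c : ZMod 3) = 1 ∨ (c : ZMod 3) = -1 := by decide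
  rcases h1 c with h2 | h2
  · left
    apply Units.ext
    rw [hc, h2, one_smul]
    rfl
  · right
    apply Units.ext
    rw [hc, h2, neg_one_smul]
    rfl

theorem mk_eq_one {a : GL12} : (QuotientGroup.mk a : QQ) = 1 ↔ a = 1 ∨ a = -1 := by
  rw [QuotientGroup.eq_one_iff]
  refine ⟨scalar_cases, ?_⟩
  rintro (rfl | rfl)
  · exact one_mem _
  · exact neg_one_mem

theorem mk_neg (a : GL12) : (QuotientGroup.mk (-a) : QQ) = QuotientGroup.mk a := by
  rw [← neg_one_mul, QuotientGroup.mk_mul, mk_eq_one.2 (Or.inr rfl), one_mul]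

theorem mk_eq_iff {a b : GL12} : (QuotientGroup.mk a : QQ) = QuotientGroup.mk b ↔ a = b ∨ a = -b := by
  constructor
  · intro h
    have h1 : (QuotientGroup.mk (a * b⁻¹) : QQ) = 1 := by
      rw [QuotientGroup.mk_mul, QuotientGroup.mk_inv, h, mul_inv_cancel]
    rcases mk_eq_one.1 h1 with h2 | h2
    · exact Or.inl (mul_inv_eq_one.1 h2)
    · right
      rw [mul_inv_eq_iff_eq_mul, neg_one_mul] at h2
      exact h2
  · rintro (rfl | rfl)
    · rfl
    · exact mk_neg b

theorem neg_one_ne : (-1 : GL12) ≠ 1 := by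
  intro h
  have h1 := congrArg (fun g : GL12 => (g : M12) (Sum.inl 0) (Sum.inl 0)) h
  simp only [Units.val_neg, Units.val_one, Matrix.neg_apply, Matrix.one_apply_eq] at h1
  exact absurd h1 (by decide)

theorem G3_sq : G 3 * G 3 = -1 := by
  have h := word_neg (w := [3, 3]) (w' := []) (by decide +kernel)
  simpa using h

/-- two double covers inside `GL` are isomorphic -/
theorem exists_iota (ψ : Suz →* QQ) {g : GL12} {s : Suz} (hs : ψ s = QuotientGroup.mk g) (hg : g * g = -1) :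
    ∃ ι : W →* GL12, Function.Injective ι ∧ ι ⟨-1, neg_one_mem_W⟩ = -1 ∧
      ∀ (w : W) (t : Suz), φ t = QuotientGroup.mk (w : GL12) → ψ t = QuotientGroup.mk (ι w) := by
  haveI : IsSimpleGroup Suz := Cfsg.Agent.S1694.result.1
  have hψ : Function.Injective ψ := by
    rw [← MonoidHom.ker_eq_bot_iff]
    rcases (inferInstance : ψ.ker.Normal).eq_bot_or_eq_top with h | h
    · exact h
    · exfalso
      have h1 : ψ s = 1 := by
        rw [← MonoidHom.mem_ker, h]
        exact Subgroup.mem_top _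
      rw [hs] at h1
      rcases mk_eq_one.1 h1 with rfl | rfl
      · exact neg_one_ne (by simpa using hg.symm)
      · exact neg_one_ne (by simpa using hg.symm)
  let μ : GL12 →* QQ := QuotientGroup.mk' _
  let Y : Subgroup (GL12 × GL12) := (ψ.prod φ).range.comap (μ.prodMap μ)
  have hY : ∀ y : Y, ∃ t, ψ t = μ (y : GL12 × GL12).1 ∧ φ t = μ (y : GL12 × GL12).2 := fun y => by
    obtain ⟨t, ht⟩ := y.2
    exact ⟨t, congrArg Prod.fst ht, congrArg Prod.snd ht⟩
  have hmem : ∀ {a b : GL12} {t : Suz}, ψ t = μ a → φ t = μ b → (a, b) ∈ Y := fun {a b t} h1 h2 =>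
    ⟨t, Prod.ext h1 h2⟩
  choose f0 hf1 hf2 using hY
  let f : Y →* Suz := MonoidHom.mk' f0 fun a b => φ_injective (by
    rw [map_mul, hf2, hf2, hf2, ← map_mul]; rfl)
  have hf1' : ∀ y : Y, ψ (f y) = μ (y : GL12 × GL12).1 := hf1
  have hf2' : ∀ y : Y, φ (f y) = μ (y : GL12 × GL12).2 := hf2
  have hlift : ∀ t : Suz, ∀ b, φ t = μ b → ∃ y : Y, f y = t ∧ (y : GL12 × GL12).2 = b := fun t b hb => by
    obtain ⟨a, ha⟩ := QuotientGroup.mk'_surjective _ (ψ t)
    exact ⟨⟨(a, b), hmem ha.symm hb⟩, φ_injective (by rw [hf2', hb]), rfl⟩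
  have hlift' : ∀ t : Suz, ∀ a, ψ t = μ a → ∃ y : Y, f y = t ∧ (y : GL12 × GL12).1 = a := fun t a ha => by
    obtain ⟨b, hb⟩ := QuotientGroup.mk'_surjective _ (φ t)
    exact ⟨⟨(a, b), hmem ha hb.symm⟩, φ_injective (by rw [hf2']; exact hb), rfl⟩
  have hfs : Function.Surjective f := fun t => by
    obtain ⟨b, hb⟩ := QuotientGroup.mk'_surjective _ (φ t)
    obtain ⟨y, hy, -⟩ := hlift t b hb.symm
    exact ⟨y, hy⟩
  have hker : ∀ y : Y, f y = 1 → ((y : GL12 × GL12).1 = 1 ∨ (y : GL12 × GL12).1 = -1) ∧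
      ((y : GL12 × GL12).2 = 1 ∨ (y : GL12 × GL12).2 = -1) := fun y hy => by
    have h1 := hf1' y
    have h2 := hf2' y
    rw [hy, map_one] at h1 h2
    exact ⟨mk_eq_one.1 h1.symm, mk_eq_one.1 h2.symm⟩
  have hcen : f.ker ≤ Subgroup.center Y := fun y hy => by
    obtain ⟨h1, h2⟩ := hker y hy
    rw [Subgroup.mem_center_iff]
    intro u
    apply Subtype.ext
    apply Prod.ext
    · show (u : GL12 × GL12).1 * (y : GL12 × GL12).1 = (y : GL12 × GL12).1 * (u : GL12 × GL12).1
      rcases h1 with h1 | h1 <;> rw [h1] <;> simp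
    · show (u : GL12 × GL12).2 * (y : GL12 × GL12).2 = (y : GL12 × GL12).2 * (u : GL12 × GL12).2
      rcases h2 with h2 | h2 <;> rw [h2] <;> simp
  obtain ⟨hp1, hp2, hp3⟩ := perfect_cover H878.Sz.perfect_Suz hfs hcen
  set Y' := commutator Y with hY'
  set f' := f.comp Y'.subtype with hf'
  have h4 := KFacts.OddLift.SuzCov.not_four_dvd (MulEquiv.refl Suz) hp1 hp2 hp3
  let p1 : Y' →* GL12 := (MonoidHom.fst _ _).comp (Y.subtype.comp Y'.subtype)
  let p2 : Y' →* GL12 := (MonoidHom.snd _ _).comp (Y.subtype.comp Y'.subtype)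
  have hq1 : ∀ y : Y', ψ (f' y) = μ (p1 y) := fun y => hf1' y
  have hq2 : ∀ y : Y', φ (f' y) = μ (p2 y) := fun y => hf2' y
  have hext : ∀ y y' : Y', p1 y = p1 y' → p2 y = p2 y' → y = y' := fun y y' h1 h2 =>
    Subtype.ext (Subtype.ext (Prod.ext h1 h2))
  have hk' : ∀ y : Y', f' y = 1 → (p1 y = 1 ∨ p1 y = -1) ∧ (p2 y = 1 ∨ p2 y = -1) := fun y hy => hker y hy
  have hsq : ∀ {a b : GL12}, μ a = μ b → a * a = b * b := fun {a b} h => by
    rcases mk_eq_iff.1 h with rfl | rfl
    · rfl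
    · exact neg_mul_neg b b
  -- the elements `(-1, ±1)` and `(±1, -1)`
  obtain ⟨y1, hy1, hy1'⟩ : ∃ y : Y', f' y = 1 ∧ p1 y = -1 := by
    obtain ⟨y, hy⟩ := hp2 s
    have h1 : p1 (y * y) = -1 := by
      rw [map_mul, ← hg]
      exact hsq (by rw [← hq1, hy, hs]; rfl)
    refine ⟨y * y, hψ ?_, h1⟩
    rw [hq1, h1, map_one]
    exact mk_eq_one.2 (Or.inr rfl)
  obtain ⟨y2, hy2, hy2'⟩ : ∃ y : Y', f' y = 1 ∧ p2 y = -1 := by
    obtain ⟨t, ht⟩ := mem_W.1 (G_mem_W (i := 3) (by norm_num))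
    obtain ⟨y, hy⟩ := hp2 t
    have h1 : p2 (y * y) = -1 := by
      rw [map_mul, ← G3_sq]
      exact hsq (by rw [← hq2, hy, ht]; rfl)
    refine ⟨y * y, φ_injective ?_, h1⟩
    rw [hq2, h1, map_one]
    exact mk_eq_one.2 (Or.inr rfl)
  obtain ⟨n, hn, hn1, hn2⟩ : ∃ y : Y', f' y = 1 ∧ p1 y = -1 ∧ p2 y = -1 := by
    rcases (hk' y1 hy1).2 with h1 | h1
    · rcases (hk' y2 hy2).1 with h2 | h2
      · exact ⟨y1 * y2, by rw [map_mul, hy1, hy2, mul_one], by rw [map_mul, hy1', h2, mul_one],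
          by rw [map_mul, h1, hy2', one_mul]⟩
      · exact ⟨y2, hy2, h2, hy2'⟩
    · exact ⟨y1, hy1, hy1', h1⟩
  -- no element `(1, -1)`
  have hno : ∀ y : Y', f' y = 1 → p1 y = 1 → p2 y = -1 → False := fun y hy h1 h2 => by
    apply h4
    let F : f'.ker → Bool × Bool := fun u => (decide (p1 u = 1), decide (p2 u = 1))
    have hF : Function.Bijective F := by
      constructor
      · intro u v huv
        obtain ⟨a1, a2⟩ := hk' u u.2
        obtain ⟨b1, b2⟩ := hk' v v.2
        have c1 : p1 u = 1 ↔ p1 v = 1 := decide_eq_decide.1 (congrArg Prod.fst huv)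
        have c2 : p2 u = 1 ↔ p2 v = 1 := decide_eq_decide.1 (congrArg Prod.snd huv)
        refine Subtype.ext (hext _ _ ?_ ?_)
        · rcases a1 with a1 | a1
          · rw [a1, c1.1 a1]
          · rcases b1 with b1 | b1
            · rw [b1, c1.2 b1]
            · rw [a1, b1]
        · rcases a2 with a2 | a2
          · rw [a2, c2.1 a2]
          · rcases b2 with b2 | b2
            · rw [b2, c2.2 b2]
            · rw [a2, b2]
      · rintro ⟨_ | _, _ | _⟩
        · exact ⟨⟨n, hn⟩, Prod.ext (decide_eq_false (by rw [hn1]; exact neg_one_ne))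
            (decide_eq_false (by rw [hn2]; exact neg_one_ne))⟩
        · refine ⟨⟨n * y, by rw [MonoidHom.mem_ker, map_mul, hn, hy, mul_one]⟩, Prod.ext (decide_eq_false ?_)
            (decide_eq_true ?_)⟩
          · show ¬ p1 (n * y) = 1
            rw [map_mul, hn1, h1, mul_one]
            exact neg_one_ne
          · show p2 (n * y) = 1
            rw [map_mul, hn2, h2, neg_mul_neg, mul_one]
        · exact ⟨⟨y, hy⟩, Prod.ext (decide_eq_true h1) (decide_eq_false (by rw [h2]; exact neg_one_ne))⟩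
        · exact ⟨1, Prod.ext (decide_eq_true (map_one p1)) (decide_eq_true (map_one p2))⟩
    rw [Nat.card_congr (Equiv.ofBijective F hF)]
    simp
  have hi1 : ∀ y : Y', p1 y = 1 → y = 1 := fun y h1 => by
    have hy : f' y = 1 := hψ (by rw [hq1, h1, map_one, map_one])
    rcases (hk' y hy).2 with h2 | h2
    · exact hext _ _ (by rw [h1, map_one]) (by rw [h2, map_one])
    · exact (hno y hy h1 h2).elim
  have hi2 : ∀ y : Y', p2 y = 1 → y = 1 := fun y h2 => by
    have hy : f' y = 1 := φ_injective (by rw [hq2, h2, map_one, map_one])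
    rcases (hk' y hy).1 with h1 | h1
    · exact hext _ _ (by rw [h1, map_one]) (by rw [h2, map_one])
    · exact (hno (n * y) (by rw [map_mul, hn, hy, mul_one]) (by rw [map_mul, hn1, h1, neg_mul_neg, mul_one])
        (by rw [map_mul, hn2, h2, mul_one])).elim
  let q : Y' →* W := p2.codRestrict W fun y => mem_W.2 ⟨f' y, hq2 y⟩
  have hq : Function.Bijective q := by
    constructor
    · rw [injective_iff_map_eq_one]
      intro y hy
      exact hi2 y (congrArg Subtype.val hy)
    · intro w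
      obtain ⟨t, ht⟩ := mem_W.1 w.2
      obtain ⟨y, hy⟩ := hp2 t
      have h1 : μ (p2 y) = μ w := by rw [← hq2, hy, ht]; rfl
      rcases mk_eq_iff.1 h1 with h2 | h2
      · exact ⟨y, Subtype.ext h2⟩
      · refine ⟨n * y, Subtype.ext ?_⟩
        show p2 (n * y) = w
        rw [map_mul, hn2, h2, neg_mul_neg, one_mul]
  let e := MulEquiv.ofBijective q hq
  refine ⟨p1.comp e.symm.toMonoidHom, ?_, ?_, fun w t ht => ?_⟩
  · rw [injective_iff_map_eq_one]
    intro w hw
    have h1 := hi1 _ hw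
    exact e.symm.injective (by rw [map_one]; exact h1)
  · have h1 : e.symm ⟨-1, neg_one_mem_W⟩ = n := by
      rw [MulEquiv.symm_apply_eq]
      exact Subtype.ext hn2.symm
    show p1 (e.symm _) = -1
    rw [h1, hn1]
  · have h1 : p2 (e.symm w) = w := congrArg Subtype.val (e.apply_symm_apply w)
    have h2 : f' (e.symm w) = t := φ_injective (by rw [hq2, h1, ht]; rfl)
    rw [← h2, hq1]
    rfl

theorem core_P0 : H915.LD.Core P0 := by
  have h := core_PF (RingHom.id (ZMod 3)) (by simp)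
  have e : PF (RingHom.id (ZMod 3)) = P0 := by
    unfold PF
    have h1 : Matrix.GeneralLinearGroup.map (n := I12) (RingHom.id (ZMod 3)) = MonoidHom.id _ := by
      ext g i j
      rfl
    rw [h1, Subgroup.map_id]
  rwa [e] at h

/-- **Uniqueness of the projective representation.** -/
theorem exists_conj (ψ : Suz →* QQ) {g : GL12} {s : Suz} (hs : ψ s = QuotientGroup.mk g) (hg : g * g = -1) :
    ∃ J : GL12, ∀ t, ψ t = QuotientGroup.mk J * φ t * (QuotientGroup.mk J)⁻¹ := by
  obtain ⟨ι, hι, hι1, hι2⟩ := exists_iota ψ hs hg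
  obtain ⟨K, i1, i2, hK, ⟨e0⟩⟩ := A0_equiv
  obtain ⟨e1⟩ := soc_P0
  have hPW : P0 ≤ W := P0_le.trans LL_le_W
  obtain ⟨J, hJ⟩ := H937.G24.core_uniq hK (F := ZMod 3) (by decide) core_P0 (e1.trans (A1_equiv.symm.trans e0))
    (by simp) (σ := ι.comp (Subgroup.inclusion hPW)) (hι.comp (Subgroup.inclusion_injective hPW))
  let κ : W →* GL12 := (MulAut.conj J⁻¹).toMonoidHom.comp ι
  have hκ : ∀ w, κ w = J⁻¹ * ι w * J := fun w => by
    show J⁻¹ * ι w * J⁻¹⁻¹ = _
    rw [_root_.inv_inv]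
  have hL : ∀ w : W, (w : GL12) ∈ LL → κ w = w := fun w hw => by
    rw [← sup_P0, Subgroup.mem_sup_of_normal_right] at hw
    obtain ⟨x, hx, c, hc, hxc⟩ := hw
    have h1 : κ ⟨x, hPW hx⟩ = x := by
      have h2 : ι ⟨x, hPW hx⟩ = J * x * J⁻¹ := hJ ⟨x, hx⟩
      rw [hκ, h2]
      group
    rcases scalar_cases hc with rfl | rfl
    · have h2 : w = ⟨x, hPW hx⟩ := Subtype.ext (by rw [← hxc, mul_one])
      rw [h2, h1]
    · have h2 : w = ⟨x, hPW hx⟩ * ⟨-1, neg_one_mem_W⟩ := Subtype.ext hxc.symm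
      rw [h2, map_mul, h1, hκ, hι1]
      simp
  have hLw : ∀ w : List ℕ, (∀ i ∈ w, i < 6) → wG w ∈ LL := fun w hw => by
    refine LL.list_prod_mem fun y hy => ?_
    obtain ⟨i, hi, rfl⟩ := List.mem_map.1 hy
    exact G_mem_LL (hw i hi)
  let g6 : W := ⟨G 6, G_mem_W (by norm_num)⟩
  -- the last generator
  have key : ∀ a b : GL12, a ∈ LL → b ∈ LL → G 6 * a = b * G 6 →
      (((G 6)⁻¹ * κ g6 : GL12) : M12) * (a : M12) = (a : M12) * (((G 6)⁻¹ * κ g6 : GL12) : M12) := by
    intro a b ha hb hab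
    have h1 : g6 * ⟨a, LL_le_W ha⟩ = ⟨b, LL_le_W hb⟩ * g6 := Subtype.ext hab
    have h2 := congrArg κ h1
    rw [map_mul, map_mul, hL ⟨a, _⟩ ha, hL ⟨b, _⟩ hb] at h2
    have h3 : (G 6)⁻¹ * κ g6 * a = a * ((G 6)⁻¹ * κ g6) := by
      have h4 : κ g6 * a = b * κ g6 := h2
      have h5 : b = G 6 * a * (G 6)⁻¹ := by rw [hab, mul_inv_cancel_right]
      rw [mul_assoc, h4, h5]
      group
    exact congrArg Units.val h3
  have hw2 : ∀ i j : ℕ, wG [i, j] = G i * G j := fun i j => by simp [wG]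
  obtain ⟨c, hc⟩ := scalar_of_comm (X := (((G 6)⁻¹ * κ g6 : GL12) : M12)) (by
    intro i hi
    simp only [List.mem_cons, List.not_mem_nil, or_false] at hi
    rcases hi with rfl | rfl | rfl | rfl | rfl
    · refine key (G 0) (G 0) (G_mem_LL (by norm_num)) (G_mem_LL (by norm_num)) ?_
      rw [← hw2, ← hw2]
      exact word_one (by decide +kernel)
    · refine key (G 2) (G 2) (G_mem_LL (by norm_num)) (G_mem_LL (by norm_num)) ?_
      rw [← hw2, ← hw2]
      exact word_one (by decide +kernel)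
    · refine key (G 3) (G 3) (G_mem_LL (by norm_num)) (G_mem_LL (by norm_num)) ?_
      rw [← hw2, ← hw2]
      exact word_one (by decide +kernel)
    · refine key (G 4) (G 4) (G_mem_LL (by norm_num)) (G_mem_LL (by norm_num)) ?_
      rw [← hw2, ← hw2]
      exact word_one (by decide +kernel)
    · refine key (G 5) (-wG [5, 0]) (G_mem_LL (by norm_num)) ?_ ?_
      · rw [← neg_one_mul]
        exact LL.mul_mem (scalars_le_LL neg_one_mem) (hLw _ (by decide))
      · have h1 : wG [6, 5] = -wG [5, 0, 6] := word_neg (by decide +kernel)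
        rw [← hw2, h1]
        simp [wG, mul_assoc]) (by
    rw [← coe_wG]
    refine key _ (wG [1, 5, 0, 1, 0, 1, 5]) (hLw _ (by decide)) (hLw _ (by decide)) ?_
    have h1 : wG ([6] ++ [1, 0, 1, 5, 0, 1]) = wG ([1, 5, 0, 1, 0, 1, 5] ++ [6]) := word_one (by decide +kernel)
    simpa only [wG, List.map_append, List.prod_append, List.map_singleton, List.prod_singleton] using h1)
  have h6 : (QuotientGroup.mk (κ g6) : QQ) = QuotientGroup.mk (G 6) := by
    rw [eq_comm, QuotientGroup.eq, mem_scalars_iff]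
    have h1 : c ≠ 0 := by
      rintro rfl
      rw [zero_smul] at hc
      exact ((G 6)⁻¹ * κ g6).ne_zero hc
    exact ⟨Units.mk0 c h1, hc⟩
  refine ⟨J, fun t => ?_⟩
  have h7 : ψ = (MulAut.conj (QuotientGroup.mk J : QQ)).toMonoidHom.comp φ := by
    refine PresentedGroup.ext fun x => ?_
    have h1 : pos x < 7 := by cases x <;> decide
    have h2 := hι2 ⟨G (pos x), G_mem_W h1⟩ _ (φ_of x)
    have h3 : (QuotientGroup.mk (κ ⟨G (pos x), G_mem_W h1⟩) : QQ) = QuotientGroup.mk (G (pos x)) := by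
      by_cases h4 : pos x < 6
      · rw [hL _ (G_mem_LL h4)]
      · have h5 : pos x = 6 := by omega
        have h8 : (⟨G (pos x), G_mem_W h1⟩ : W) = g6 := Subtype.ext (congrArg G h5)
        rw [h8, h5, h6]
    refine h2.trans ?_
    show _ = QuotientGroup.mk J * φ (PresentedGroup.mk _ (FreeGroup.of x)) * (QuotientGroup.mk J)⁻¹
    rw [φ_of]
    show _ = QuotientGroup.mk J * QuotientGroup.mk (G (pos x)) * (QuotientGroup.mk J)⁻¹
    rw [← h3, hκ, QuotientGroup.mk_mul, QuotientGroup.mk_mul, QuotientGroup.mk_inv]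
    group
  rw [h7]
  rfl

end Cfsg.Agent.TAB.C3B
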