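import Cfsg.Agent.TAB.C3B.Mx
import Cfsg.Agent.H740.OreM.Bd

/-!
# TAB / C(3B): coordinates on `N = 3^(1+12)` (helper15)

`exists_baer` : the elements of `N` inverted by `z` are indexed by the rows of length 12 over `ZMod 3`.
-/

set_option autoImplicit false
set_option linter.style.haveILetI false

namespace Cfsg.Agent.TAB.C3B

open Matrix Subgroup Cfsg.Agent.H920.Sz12 Cfsg.Agent.BpSpor.M5 Cfsg.Agent.H740.OreM.Dich

theorem z3_a : ∀ a : ZMod 3, a = -a → a = 0 := by decide

theorem z3_b : ∀ a : ZMod 3, a = -a + -a := by decide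

theorem z3_c : ∀ a : ZMod 3, a + a + a = 0 := by decide

theorem card_I12 : Fintype.card I12 = 12 := by simp

theorem card_V12 : Nat.card V12 = 3 ^ 12 := by
  rw [Nat.card_eq_fintype_card, Fintype.card_fun, ZMod.card, card_I12]

/-- an elementary abelian group of order `3 ^ 12` -/
theorem exists_coord {H : Type*} [Group H] (hc : ∀ a b : H, a * b = b * a) (h3 : ∀ a : H, a ^ 3 = 1)
    (hcard : Nat.card H = 3 ^ 12) : ∃ e : V12 → H, Function.Bijective e ∧ ∀ u v, e (u + v) = e u * e v := by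
  letI : CommGroup H := { (inferInstance : Group H) with mul_comm := hc }
  have hfin : Finite H := Nat.finite_of_card_ne_zero (by rw [hcard]; norm_num)
  letI : Module (ZMod 3) (Additive H) := AddCommGroup.zmodModule (n := 3) (fun a => by
    show Additive.ofMul (a.toMul ^ 3) = 0
    rw [h3]; rfl)
  have hp : Fact (Nat.Prime 3) := ⟨Nat.prime_three⟩
  have hF : Module.Finite (ZMod 3) (Additive H) := Module.Finite.of_finite
  have h1 : Module.finrank (ZMod 3) (Additive H) = 12 := by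
    have h2 := Module.natCard_eq_pow_finrank (K := ZMod 3) (V := Additive H)
    rw [Nat.card_zmod, show Nat.card (Additive H) = Nat.card H from rfl, hcard] at h2
    exact (Nat.pow_right_injective (by norm_num : 2 ≤ 3) h2).symm
  have h2 : Module.finrank (ZMod 3) V12 = Module.finrank (ZMod 3) (Additive H) := by
    rw [h1, Module.finrank_pi, card_I12]
  let e := LinearEquiv.ofFinrankEq (R := ZMod 3) V12 (Additive H) h2
  refine ⟨fun v => (e v).toMul, Additive.toMul.bijective.comp e.bijective, fun u v => ?_⟩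
  show (e (u + v)).toMul = _
  rw [map_add]
  rfl

section

variable {D : Type*} [Group D]

/-- the powers of `x` -/
def Xp (x : D) (a : ZMod 3) : D := x ^ a.val

theorem Xp_cast {x : D} (hx : orderOf x = 3) (i : ℤ) : Xp x (i : ZMod 3) = x ^ i := by
  unfold Xp
  rw [← zpow_natCast, zpow_eq_zpow_iff_modEq, hx, ZMod.val_intCast]
  exact Int.mod_modEq _ _

theorem Xp_add {x : D} (hx : orderOf x = 3) (a b : ZMod 3) : Xp x (a + b) = Xp x a * Xp x b := by
  obtain ⟨i, rfl⟩ := ZMod.intCast_surjective a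
  obtain ⟨j, rfl⟩ := ZMod.intCast_surjective b
  rw [← Int.cast_add, Xp_cast hx, Xp_cast hx, Xp_cast hx, _root_.zpow_add]

theorem Xp_zero (x : D) : Xp x 0 = 1 := by
  unfold Xp
  rw [ZMod.val_zero, pow_zero]

theorem Xp_inj {x : D} (hx : orderOf x = 3) {a : ZMod 3} (h : Xp x a = 1) : a = 0 := by
  have h1 := orderOf_dvd_of_pow_eq_one h
  rw [hx] at h1
  rw [← ZMod.natCast_zmod_val a]
  exact (ZMod.natCast_eq_zero_iff _ _).2 h1

theorem Xp_neg {x : D} (hx : orderOf x = 3) (a : ZMod 3) : Xp x (-a) = (Xp x a)⁻¹ := by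
  rw [eq_inv_iff_mul_eq_one, ← Xp_add hx, neg_add_cancel, Xp_zero]

theorem Xp_injective {x : D} (hx : orderOf x = 3) : Function.Injective (Xp x) := by
  intro a b h
  rw [← sub_eq_zero]
  apply Xp_inj hx
  rw [sub_eq_add_neg, Xp_add hx, Xp_neg hx, h, mul_inv_cancel]

end

variable {D : Type*} [Group D] [Finite D] {z x : D} {N : Subgroup D} {A : Type*} [Group A]
  {f : ↥(centralizer ({z} : Set D)) →* A}

/-- the coordinates -/
structure Baer (z x : D) (N : Subgroup D) (b : V12 → D) (C : M12)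
    (σ : ↥(centralizer ({z} : Set D)) →* GL I12 (ZMod 3)) : Prop where
  mem : ∀ v, b v ∈ N
  mul : ∀ u v, b u * b v = b (u + v) * Xp x ((u ᵥ* C) ⬝ᵥ v)
  inj : ∀ v a, b v = Xp x a → v = 0
  surj : ∀ n ∈ N, ∃ v a, n = b v * Xp x a
  conj : ∀ (k : ↥(centralizer ({z} : Set D))) v, (k : D)⁻¹ * b v * k = b (v ᵥ* (σ k : M12))
  cz : ∀ v, z⁻¹ * b v * z = b (-v)
  ne : C ≠ 0

theorem exists_baer (h : Rad 3 z x N f) (hcen : Cen x N) (hN : Nat.card ↥N = 3 ^ 13) :
    ∃ b C σ, Baer z x N b C σ := by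
  have hp : Fact (Nat.Prime 3) := ⟨Nat.prime_three⟩
  have hx := h.ox
  have hZ := h.normalZ
  have hn := h.nN
  have hXc : ∀ a g, g * Xp x a = Xp x a * g := fun a g => by
    obtain ⟨i, rfl⟩ := ZMod.intCast_surjective a
    rw [Xp_cast hx]
    exact h.xzc i g
  have hmem : ∀ {g : D}, g ∈ zpowers x → ∃ a, g = Xp x a := fun hg => by
    obtain ⟨i, rfl⟩ := mem_zpowers_iff.1 hg
    exact ⟨i, (Xp_cast hx i).symm⟩
  have hXZ : ∀ a, Xp x a ∈ zpowers x := fun a => pow_mem (mem_zpowers x) _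
  let μ := QuotientGroup.mk' (zpowers x)
  have hμ : ∀ {n m : D}, μ n = μ m → ∃ a, n = m * Xp x a := fun {n m} hnm => by
    obtain ⟨a, ha⟩ := hmem (QuotientGroup.eq.1 hnm.symm)
    exact ⟨a, by rw [← ha, mul_inv_cancel_left]⟩
  have hμX : ∀ a, μ (Xp x a) = 1 := fun a => (QuotientGroup.eq_one_iff _).2 (hXZ a)
  have hcomm : ∀ {n m : D}, n ∈ N → m ∈ N → ∃ a, n * m = m * n * Xp x a := fun {n m} h1 h2 => by
    obtain ⟨i, hi⟩ := h.comm (by norm_num) h1 h2
    refine ⟨i, ?_⟩
    rw [Xp_cast hx]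
    calc n * m = n * m * n⁻¹ * n := by group
      _ = m * x ^ i * n := by rw [hi]
      _ = _ := by rw [mul_assoc, ← h.xzc, mul_assoc]
  -- the quotient
  obtain ⟨e, he, hea⟩ := exists_coord (H := ↥(N.map μ)) (by
      rintro ⟨_, n, h1, rfl⟩ ⟨_, m, h2, rfl⟩
      obtain ⟨a, ha⟩ := hcomm h1 h2
      apply Subtype.ext
      show μ n * μ m = μ m * μ n
      rw [← map_mul, ha, map_mul, hμX, mul_one, map_mul]) (by
      rintro ⟨_, n, h1, rfl⟩
      apply Subtype.ext
      show μ n ^ 3 = 1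
      rw [← map_pow]
      refine (QuotientGroup.eq_one_iff _).2 (hcen _ (N.pow_mem h1 3) fun m h2 => ?_)
      obtain ⟨a, ha⟩ := hcomm h1 h2
      have h3 : Xp x a * Xp x a * Xp x a = 1 := by
        rw [← Xp_add hx, ← Xp_add hx, z3_c, Xp_zero]
      have h4 : ∀ g, n * (m * g) = m * (Xp x a * (n * g)) := fun g => by
        rw [← mul_assoc, ha, mul_assoc m, hXc, mul_assoc, mul_assoc]
      calc n ^ 3 * m = n * (n * (n * (m * 1))) := by rw [pow_succ, pow_two]; group
        _ = m * (Xp x a * (n * (Xp x a * (n * (Xp x a * (n * 1)))))) := by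
          rw [h4, h4, h4]
        _ = m * (Xp x a * Xp x a * Xp x a) * n ^ 3 := by
          rw [← mul_assoc n (Xp x a), hXc a n, ← mul_assoc n (Xp x a), hXc a n, pow_succ, pow_two]
          simp only [mul_assoc, mul_one]
          rw [← mul_assoc n (Xp x a), hXc a n]
          simp only [mul_assoc]
        _ = _ := by rw [h3, mul_one]) (by
      have h1 := card_eq_card_quotient_mul_card_subgroup (μ.comp N.subtype).ker
      rw [Nat.card_congr (QuotientGroup.quotientKerEquivRange (μ.comp N.subtype)).toEquiv, MonoidHom.range_comp,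
        range_subtype, ← MonoidHom.comap_ker, QuotientGroup.ker_mk', comap_subtype,
        Nat.card_congr (subgroupOfEquivOfLe (zpowers_le.2 h.xN)).toEquiv, Nat.card_zpowers, hx, hN] at h1
      omega)
  -- the section
  have hex : ∀ v : V12, ∃ n ∈ N, μ n = e v ∧ z * n * z⁻¹ = n⁻¹ := fun v => by
    obtain ⟨n, h1, h2⟩ := (e v).2
    obtain ⟨i, hi⟩ := h.inv (by norm_num) h1
    refine ⟨n * x ^ i, N.mul_mem h1 (N.zpow_mem h.xN i), by
      rw [map_mul, h2, ← Xp_cast hx, hμX, mul_one], ?_⟩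
    have h3 : x ^ i * x ^ i = (x ^ i)⁻¹ := by
      rw [eq_inv_iff_mul_eq_one, ← Cfsg.Agent.H740.OreM.Lift.cube h i, pow_succ, pow_two]
    calc z * (n * x ^ i) * z⁻¹ = z * n * z⁻¹ * x ^ i := by
          rw [mul_assoc (z * n), h.xzc i z⁻¹]; simp only [mul_assoc]
      _ = n⁻¹ * (x ^ i)⁻¹ := by rw [hi, mul_assoc, h3]
      _ = _ := by rw [_root_.mul_inv_rev, ← _root_.zpow_neg, h.xzc]
  choose b hbN hbμ hbz using hex
  have huniq : ∀ {n : D} {v : V12}, μ n = e v → z * n * z⁻¹ = n⁻¹ → n = b v := fun {n v} h1 h2 => by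
    obtain ⟨a, rfl⟩ := hμ (h1.trans (hbμ v).symm)
    have h3 : z * (b v * Xp x a) * z⁻¹ = (b v)⁻¹ * Xp x a := by
      rw [← hbz v, mul_assoc (z * b v), hXc a z⁻¹]; simp only [mul_assoc]
    rw [h3, _root_.mul_inv_rev, ← Xp_neg hx, ← hXc, mul_left_cancel_iff] at h2
    have h4 : a = 0 := by
      exact z3_a a (Xp_injective hx h2)
    rw [h4, Xp_zero, mul_one]
  have he0 : e 0 = 1 := by
    have := hea 0 0
    rw [add_zero] at this
    exact left_eq_mul.1 this
  have hinj : ∀ v a, b v = Xp x a → v = 0 := fun v a hv => he.1 (Subtype.ext (by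
    rw [← hbμ, hv, hμX, he0]; rfl))
  have hsurj : ∀ n ∈ N, ∃ v, μ n = e v := fun n h1 => by
    obtain ⟨v, hv⟩ := he.2 ⟨μ n, n, h1, rfl⟩
    exact ⟨v, by rw [hv]⟩
  have hbinj : ∀ {u v}, μ (b u) = μ (b v) → u = v := fun {u v} h1 =>
    he.1 (Subtype.ext (by rw [← hbμ, ← hbμ, h1]))
  have hbadd : ∀ u v, μ (b u * b v) = μ (b (u + v)) := fun u v => by
    rw [map_mul, hbμ, hbμ, hbμ, hea]; rfl
  choose c hc using fun u v => hμ (hbadd u v)
  -- the form
  have hanti : ∀ u v, c v u = -c u v := fun u v => by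
    have h1 : (b u)⁻¹ * (b v)⁻¹ = (b (u + v))⁻¹ * Xp x (c u v) := by
      rw [← hbz, ← hbz, ← hbz]
      calc z * b u * z⁻¹ * (z * b v * z⁻¹) = z * (b u * b v) * z⁻¹ := by group
        _ = _ := by rw [hc, mul_assoc (z * b (u + v)), hXc _ z⁻¹]; simp only [mul_assoc]
    have h2 : b v * b u = b (u + v) * Xp x (-c u v) := by
      rw [← _root_.inv_inj, _root_.mul_inv_rev, h1, _root_.mul_inv_rev, ← Xp_neg hx, neg_neg, hXc]
    rw [hc, add_comm v, mul_left_cancel_iff] at h2
    exact Xp_injective hx h2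
  have hsw : ∀ u v, b u * b v = b v * b u * Xp x (-c u v) := fun u v => by
    rw [hc, hc v u, add_comm v, mul_assoc, ← Xp_add hx, hanti u v]
    rw [← z3_b]
  have hadd : ∀ u v w, c u (v + w) = c u v + c u w := fun u v w => by
    have h1 : b u * (b v * b w) = b v * b w * b u * Xp x (-c u v + -c u w) := by
      calc b u * (b v * b w) = b v * (b u * b w) * Xp x (-c u v) := by
            rw [← mul_assoc, hsw u v, mul_assoc _ (Xp x _), ← hXc]; group
        _ = _ := by rw [hsw u w, add_comm, Xp_add hx]; group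
    have h2 : b u * (b v * b w) = b v * b w * b u * Xp x (-c u (v + w)) := by
      rw [hc v w, ← mul_assoc, hsw u (v + w), mul_assoc (b (v + w)) (Xp x _), ← hXc _ (b u)]
      simp only [mul_assoc]
      rw [hXc]
    rw [h1, mul_left_cancel_iff] at h2
    have h3 := Xp_injective hx h2
    linear_combination h3
  let cr : V12 → (V12 →ₗ[ZMod 3] ZMod 3) := fun u =>
    (AddMonoidHom.mk' (c u) (hadd u)).toZModLinearMap 3
  let cl : V12 →ₗ[ZMod 3] V12 →ₗ[ZMod 3] ZMod 3 :=
    (AddMonoidHom.mk' cr (fun u u' => LinearMap.ext fun v => by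
      show c (u + u') v = c u v + c u' v
      rw [hanti v, hadd, hanti v u, hanti v u']
      ring)).toZModLinearMap 3
  have hC : ∀ u v, c u v = (u ᵥ* LinearMap.toMatrix₂' (ZMod 3) cl) ⬝ᵥ v := fun u v => by
    rw [← dotProduct_mulVec, ← Matrix.toLinearMap₂'_apply', Matrix.toLinearMap₂'_toMatrix']
    rfl
  -- the action
  have hact : ∀ (k : ↥(centralizer ({z} : Set D))) (v : V12), ∃ w, (k : D)⁻¹ * b v * k = b w := fun k v => by
    obtain ⟨w, hw⟩ := hsurj _ (hn.conj_mem' _ (hbN v) (k : D))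
    refine ⟨w, huniq hw ?_⟩
    have h1 : (k : D) * z = z * k := mem_centralizer_singleton_iff.1 k.2
    have h2 : z * (k : D)⁻¹ = (k : D)⁻¹ * z := by
      rw [eq_inv_mul_iff_mul_eq, ← mul_assoc, h1, mul_inv_cancel_right]
    have h3 : (k : D) * z⁻¹ = z⁻¹ * k := by
      rw [eq_inv_mul_iff_mul_eq, ← mul_assoc, ← h1, mul_inv_cancel_right]
    calc z * ((k : D)⁻¹ * b v * k) * z⁻¹ = (z * (k : D)⁻¹) * b v * (k * z⁻¹) := by group
      _ = (k : D)⁻¹ * (z * b v * z⁻¹) * k := by rw [h2, h3]; group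
      _ = _ := by rw [hbz]; group
  choose s hs using hact
  have hsa : ∀ k u v, s k (u + v) = s k u + s k v := fun k u v => by
    apply hbinj
    rw [← hbadd, ← hs, ← hs, ← hs]
    have h1 : (k : D)⁻¹ * b u * k * ((k : D)⁻¹ * b v * k) = (k : D)⁻¹ * (b u * b v) * k := by group
    rw [h1, map_mul, map_mul, map_mul, map_mul, hbadd]
  let sl : ↥(centralizer ({z} : Set D)) → (V12 →ₗ[ZMod 3] V12) := fun k =>
    (AddMonoidHom.mk' (s k) (hsa k)).toZModLinearMap 3
  let sm : ↥(centralizer ({z} : Set D)) → M12 := fun k => LinearMap.toMatrixRight' (sl k)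
  have hsm : ∀ k v, v ᵥ* sm k = s k v := fun k v => by
    rw [← Matrix.toLinearMapRight'_apply]
    show (Matrix.toLinearMapRight' (LinearMap.toMatrixRight' (sl k))) v = _
    rw [show Matrix.toLinearMapRight' (LinearMap.toMatrixRight' (sl k)) = sl k from
      LinearMap.toMatrixRight'.symm_apply_apply _]
    rfl
  have hext : ∀ {S T : M12}, (∀ v : V12, v ᵥ* S = v ᵥ* T) → S = T := fun {S T} h1 =>
    Matrix.ext fun i j => by
      have := congrFun (h1 (Pi.single i 1)) j
      rwa [single_one_vecMul, single_one_vecMul] at this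
  let σ₀ : ↥(centralizer ({z} : Set D)) →* M12 :=
    { toFun := sm
      map_one' := hext fun v => by
        rw [hsm, vecMul_one]
        apply hbinj
        rw [← hs]
        simp
      map_mul' := fun k l => hext fun v => by
        rw [← vecMul_vecMul, hsm, hsm, hsm]
        apply hbinj
        rw [← hs, ← hs, ← hs]
        congr 1
        simp only [Subgroup.coe_mul]
        group }
  refine ⟨b, LinearMap.toMatrix₂' (ZMod 3) cl, σ₀.toHomUnits, hbN, fun u v => by rw [← hC, hc], hinj,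
    fun n h1 => ?_, fun k v => ?_, fun v => ?_, fun h0 => ?_⟩
  · obtain ⟨v, hv⟩ := hsurj n h1
    obtain ⟨a, ha⟩ := hμ (hv.trans (hbμ v).symm)
    exact ⟨v, a, ha⟩
  · rw [hs, ← hsm]; rfl
  · have h1 : z⁻¹ * b v * z = (b v)⁻¹ := by
      rw [← hbz, h.zinv]
    rw [h1]
    refine huniq ?_ (by rw [← conj_inv, hbz])
    rw [map_inv, hbμ]
    have h2 : e (-v) * e v = 1 := by rw [← hea, neg_add_cancel, he0]
    rw [eq_inv_of_mul_eq_one_left h2]
    rfl
  · have h1 : ∀ v, b v ∈ zpowers x := fun v => hcen _ (hbN v) fun m h1 => by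
      obtain ⟨w, hw⟩ := hsurj m h1
      obtain ⟨a, rfl⟩ := hμ (hw.trans (hbμ w).symm)
      rw [← mul_assoc, hsw v w, hC, h0, vecMul_zero, zero_dotProduct, neg_zero, Xp_zero, mul_one, mul_assoc, hXc,
        mul_assoc]
    obtain ⟨a, ha⟩ := hmem (h1 fun _ => 1)
    have h2 := congrFun (hinj _ _ ha) (Sum.inl 0)
    exact one_ne_zero h2

end Cfsg.Agent.TAB.C3B
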