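import Cfsg.Agent.TAB.C3B.Wt
import Cfsg.Agent.Lib.BitNetSimple

/-!
# TAB / C(3B): certificates (helper15)

* `gl T i`, `Has T i`, `chkP` : tables of elements of `W`;
* `nrm`, `addN`, `pwN` : rows as numbers, powers;
* `FixC` : the fixed rows of a matrix, `ssN` : the character sums;
* `all_list`, `nodup_of` : orbits.
-/

set_option autoImplicit false

namespace Cfsg.Agent.TAB.C3B

open Matrix Cfsg.Agent.H920.Sz12
open Cfsg.Agent.Lib.BitNetSimple (force force_eq)

/-! ### Tables -/

/-- the generators and more matrices -/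
def tb (L : List (List ℕ)) (i : ℕ) : List ℕ := if i < 7 then M i else tab L (i - 7)

theorem good_tb {L : List (List ℕ)} (h : L.all good = true) (i : ℕ) : good (tb L i) = true := by
  unfold tb
  split_ifs
  · exact good_M i
  · exact good_tab h _

open Classical in
/-- the invertible matrix of a table -/
noncomputable def gl (T : ℕ → List ℕ) (i : ℕ) : GL12 := if h : IsUnit (toM (T i)) then h.unit else 1

/-- the table is an element of `W` -/
def Has (T : ℕ → List ℕ) (i : ℕ) : Prop := gl T i ∈ W ∧ (gl T i : M12) = toM (T i)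

theorem has_of {T : ℕ → List ℕ} {i : ℕ} {A : GL12} (hA : A ∈ W) (h : (A : M12) = toM (T i)) : Has T i := by
  have h1 : IsUnit (toM (T i)) := h ▸ A.isUnit
  have h2 : gl T i = A := by
    unfold gl
    rw [dif_pos h1]
    exact Units.ext (h1.unit_spec.trans h.symm)
  exact ⟨h2 ▸ hA, h2 ▸ h⟩

theorem gl_tb (L : List (List ℕ)) {i : ℕ} (hi : i < 7) : gl (tb L) i = G i ∧ Has (tb L) i := by
  have h : Has (tb L) i := has_of (G_mem_W hi) (by rw [coe_G, tb, if_pos hi])
  exact ⟨Units.ext (by rw [h.2, coe_G, tb, if_pos hi]), h⟩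

/-- the product of a word -/
noncomputable def gw (T : ℕ → List ℕ) (w : List ℕ) : GL12 := (w.map (gl T)).prod

theorem gw_nil (T : ℕ → List ℕ) : gw T [] = 1 := rfl

theorem gw_cons (T : ℕ → List ℕ) (i : ℕ) (w : List ℕ) : gw T (i :: w) = gl T i * gw T w := rfl

theorem gw_one (T : ℕ → List ℕ) (i : ℕ) : gw T [i] = gl T i := mul_one _

theorem gw_two (T : ℕ → List ℕ) (i j : ℕ) : gw T [i, j] = gl T i * gl T j := by rw [gw_cons, gw_one]

theorem gw_append (T : ℕ → List ℕ) (w w' : List ℕ) : gw T (w ++ w') = gw T w * gw T w' := by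
  unfold gw
  rw [List.map_append, List.prod_append]

theorem gw_rep (T : ℕ → List ℕ) (n i : ℕ) : gw T (List.replicate n i) = gl T i ^ n := by
  unfold gw
  rw [List.map_replicate, List.prod_replicate]

theorem gw_tb (L : List (List ℕ)) {w : List ℕ} (h : ∀ i ∈ w, i < 7) : gw (tb L) w = wG w := by
  unfold gw wG
  rw [List.map_congr_left fun i hi => (gl_tb L (h i hi)).1]

theorem gw_has {T : ℕ → List ℕ} {w : List ℕ} (h : ∀ i ∈ w, Has T i) : gw T w ∈ W ∧ (gw T w : M12) = wm T w := by
  induction w with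
  | nil => exact ⟨one_mem _, rfl⟩
  | cons i w ih =>
    obtain ⟨h1, h2⟩ := ih fun j hj => h j (List.mem_cons_of_mem _ hj)
    obtain ⟨h3, h4⟩ := h i List.mem_cons_self
    exact ⟨W.mul_mem h3 h1, by rw [gw_cons, wm_cons, Units.val_mul, h2, h4]⟩

/-- each table is a word in the tables before it, up to the sign -/
def chkP (T : ℕ → List ℕ) : List (List ℕ) → ℕ → Bool
  | [], _ => true
  | w :: P, n => w.all (fun i => decide (i < n)) && (eqB T 1 [n] w || eqB T 2 [n] w) && chkP T P (n + 1)

theorem chkP_realised : True := by have := @chkP.eq_def; trivial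

theorem has_all {T : ℕ → List ℕ} (hT : ∀ i, good (T i) = true) : ∀ (P : List (List ℕ)) (n : ℕ),
    chkP T P n = true → (∀ i < n, Has T i) → ∀ i < n + P.length, Has T i
  | [], _, _, h => h
  | w :: P, n, h, h0 => by
    rw [chkP, Bool.and_eq_true, Bool.and_eq_true, List.all_eq_true, Bool.or_eq_true] at h
    obtain ⟨h1, h2⟩ := gw_has (T := T) (w := w) fun i hi => h0 i (of_decide_eq_true (h.1.1 i hi))
    have h3 : Has T n := by
      rcases h.1.2 with h4 | h4
      · exact has_of h1 (by rw [h2, ← eqB_wm hT h4, wm_one])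
      · exact has_of (neg_mem_W h1) (by rw [Units.val_neg, h2, ← eqB_wm_neg hT h4, wm_one])
    have h4 := has_all hT P (n + 1) h.2 fun i hi => by
      rcases Nat.lt_succ_iff_lt_or_eq.1 hi with h5 | h5
      · exact h0 i h5
      · rw [h5]; exact h3
    intro i hi
    exact h4 i (by rw [List.length_cons] at hi; omega)

/-- a checked table with `n` group elements -/
structure Tab (T : ℕ → List ℕ) (n : ℕ) : Prop where
  good : ∀ i, good (T i) = true
  has : ∀ i < n, Has T i

theorem tab_of {L P : List (List ℕ)} (h : (L.all good && chkP (tb L) P 7) = true) : Tab (tb L) (7 + P.length) := by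
  rw [Bool.and_eq_true] at h
  exact ⟨good_tb h.1, has_all (good_tb h.1) P 7 h.2 fun i hi => (gl_tb L hi).2⟩

/-- equality of words in the group elements -/
def eqW (T : ℕ → List ℕ) (n s : ℕ) (w w' : List ℕ) : Bool :=
  w.all (fun i => decide (i < n)) && w'.all (fun i => decide (i < n)) && eqB T s w w'

namespace Tab

variable {T : ℕ → List ℕ} {n : ℕ} (t : Tab T n)
include t

theorem mem {i : ℕ} (hi : i < n) : gl T i ∈ W := (t.has i hi).1

theorem coe {i : ℕ} (hi : i < n) : (gl T i : M12) = toM (T i) := (t.has i hi).2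

theorem word {w : List ℕ} (h : w.all (fun i => decide (i < n)) = true) : gw T w ∈ W ∧ (gw T w : M12) = wm T w :=
  gw_has fun i hi => t.has i (of_decide_eq_true (List.all_eq_true.1 h i hi))

theorem eq {w w' : List ℕ} (h : eqW T n 1 w w' = true) : gw T w = gw T w' := by
  rw [eqW, Bool.and_eq_true, Bool.and_eq_true] at h
  exact Units.ext (by rw [(t.word h.1.1).2, (t.word h.1.2).2, eqB_wm t.good h.2])

theorem eq_neg {w w' : List ℕ} (h : eqW T n 2 w w' = true) : gw T w = -gw T w' := by
  rw [eqW, Bool.and_eq_true, Bool.and_eq_true] at h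
  exact Units.ext (by rw [Units.val_neg, (t.word h.1.1).2, (t.word h.1.2).2, eqB_wm_neg t.good h.2])

theorem pow {i j k : ℕ} (h : eqW T n 1 (List.replicate k i) [j] = true) : gl T i ^ k = gl T j := by
  rw [← gw_rep, t.eq h, gw_one]

theorem pow_one {i k : ℕ} (h : eqW T n 1 (List.replicate k i) [] = true) : gl T i ^ k = 1 := by
  rw [← gw_rep, t.eq h, gw_nil]

theorem mul {i j k l : ℕ} (h : eqW T n 1 [i, j] [k, l] = true) : gl T i * gl T j = gl T k * gl T l := by
  rw [← gw_two, ← gw_two, t.eq h]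

end Tab

theorem CW_pow (A : GL12) (j : ℕ) : CW A ≤ CW (A ^ j) :=
  Subgroup.card_le_of_le (inf_le_inf_left W fun B hB => Subgroup.mem_centralizer_singleton_iff.2
    ((show Commute B A from Subgroup.mem_centralizer_singleton_iff.1 hB).pow_right j))

/-- transport of the bound of a centralizer -/
theorem CW_tab {L : List (List ℕ)} {n : ℕ} (t : Tab (tb L) n) {w c : List ℕ} {i j : ℕ}
    (h : (w.all (fun i => decide (i < 7)) && (eqW (tb L) n 1 (w ++ c) (c ++ List.replicate j i) ||
      eqW (tb L) n 2 (w ++ c) (c ++ List.replicate j i))) = true) : CW (gl (tb L) i) ≤ CW (wG w) := by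
  rw [Bool.and_eq_true, Bool.or_eq_true] at h
  have h1 : gw (tb L) w = wG w := gw_tb L fun i hi => of_decide_eq_true (List.all_eq_true.1 h.1 i hi)
  have h2 : gw (tb L) c ∈ W := by
    have h3 : (w ++ c).all (fun i => decide (i < n)) = true := by
      rcases h.2 with h4 | h4 <;> rw [eqW, Bool.and_eq_true, Bool.and_eq_true] at h4 <;> exact h4.1.1
    rw [List.all_append, Bool.and_eq_true] at h3
    exact (t.word h3.2).1
  refine (CW_pow _ j).trans (CW_conj h2 ?_)
  rw [← h1, ← gw_rep, ← gw_append, ← gw_append]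
  exact h.2.imp t.eq t.eq_neg

/-! ### Rows as numbers -/

/-- the number with the reduced digits -/
def enc (d : ℕ → ℕ) : ℕ := ((List.range 12).map fun j => d j % 3 * 256 ^ j).sum

theorem enc_eq (d : ℕ → ℕ) : enc d = ∑ j ∈ Finset.range 12, d j % 3 * 256 ^ j := Eng.sum_range_eq _ _

theorem toV_enc (d : ℕ → ℕ) (i : I12) : toV (enc d) i = (d (ix i) : ZMod 3) := by
  unfold toV
  rw [enc_eq, (sum_digits 12 (fun j => d j % 3) fun j _ => by omega).2 _ (ix_lt i), ZMod.natCast_mod]

/-- the normal form -/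
def nrm (a : ℕ) : ℕ := enc (dg a)

theorem nrm_eq {a b : ℕ} (h : toV a = toV b) : nrm a = nrm b := by
  unfold nrm
  rw [enc_eq, enc_eq]
  refine Finset.sum_congr rfl fun j hj => ?_
  have h1 := congrFun h (finSumFinEquiv.symm ⟨j, Finset.mem_range.1 hj⟩)
  unfold toV ix at h1
  rw [Equiv.apply_symm_apply] at h1
  rw [(ZMod.natCast_eq_natCast_iff' _ _ 3).1 h1]

theorem toV_nrm (a : ℕ) : toV (nrm a) = toV a := funext fun i => toV_enc _ i

theorem toV_of_nrm {a b : ℕ} (h : nrm a = nrm b) : toV a = toV b := by rw [← toV_nrm a, h, toV_nrm]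

theorem toV_zero : toV 0 = 0 := funext fun i => by simp [toV, dg]

theorem nodup_toV {l : List ℕ} (h : (l.map nrm).Nodup) : (l.map toV).Nodup := by
  have h0 := List.Nodup.of_map _ h
  rw [List.nodup_map_iff_inj_on h0] at h ⊢
  exact fun a ha b hb e => h a ha b hb (nrm_eq e)

/-- the sum -/
def addN (a b : ℕ) : ℕ := enc fun j => dg a j + dg b j

theorem toV_addN (a b : ℕ) : toV (addN a b) = toV a + toV b := funext fun i => by
  rw [addN, toV_enc, Nat.cast_add]
  rfl

/-- the powers -/
noncomputable def pwN (A : List ℕ) (v : ℕ) (n : ℕ) (κ : ℕ → ℕ → Bool) : Bool :=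
  Nat.rec (motive := fun _ => (ℕ → ℕ → Bool) → Bool) (fun κ => κ 0 0)
    (fun _ ih κ => ih fun s q => force (step A s 0) fun s' => force (addN s' v) fun s'' =>
      force (q + fmN s' v) fun q' => κ s'' q') n κ

theorem pwN_spec {A : List ℕ} (hA : good A = true) (v : ℕ) : ∀ n : ℕ, ∃ s q : ℕ, toV s = ps (toM A) (toV v) n ∧
    (q : ZMod 3) = pq (toM A) (toV v) n ∧ ∀ κ, pwN A v n κ = κ s q
  | 0 => ⟨0, 0, toV_zero, Nat.cast_zero, fun _ => rfl⟩
  | n + 1 => by
    obtain ⟨s, q, h1, h2, h3⟩ := pwN_spec hA v n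
    refine ⟨addN (step A s 0) v, q + fmN (step A s 0) v, ?_, ?_, fun κ => ?_⟩
    · rw [toV_addN, toV_step hA, h1, ps]
    · rw [Nat.cast_add, fmN_eq, toV_step hA, h1, h2, pq]
    · refine (h3 _).trans ?_
      rw [force_eq, force_eq, force_eq]

/-- the vector part of the `n`-th power is `s` -/
noncomputable def psB (A : List ℕ) (v n s : ℕ) : Bool := pwN A v n fun s' _ => Nat.beq (nrm s') (nrm s)

theorem psB_spec {A : List ℕ} (hA : good A = true) {v n s : ℕ} (h : psB A v n s = true) :
    ps (toM A) (toV v) n = toV s := by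
  obtain ⟨s', q, h1, -, h3⟩ := pwN_spec hA v n
  rw [psB, h3] at h
  rw [← h1, toV_of_nrm (Nat.eq_of_beq_eq_true h)]

/-- the `n`-th power is `X r` -/
noncomputable def pqB (A : List ℕ) (v n r : ℕ) : Bool :=
  pwN A v n fun s q => Nat.beq (nrm s) 0 && Nat.beq (q % 3) r

theorem pqB_spec {A : List ℕ} (hA : good A = true) {v n r : ℕ} (h : pqB A v n r = true) :
    ps (toM A) (toV v) n = 0 ∧ pq (toM A) (toV v) n = r := by
  obtain ⟨s', q, h1, h2, h3⟩ := pwN_spec hA v n
  rw [pqB, h3, Bool.and_eq_true] at h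
  refine ⟨by rw [← h1, ← toV_nrm, Nat.eq_of_beq_eq_true h.1, toV_zero], ?_⟩
  rw [← h2, ← ZMod.natCast_mod q 3, Nat.eq_of_beq_eq_true h.2]

/-- the row is fixed -/
def fxB (A : List ℕ) (v : ℕ) : Bool := Nat.beq (nrm (step A v 0)) (nrm v)

theorem fxB_spec {A : List ℕ} (hA : good A = true) {v : ℕ} (h : fxB A v = true) : toV v ᵥ* toM A = toV v := by
  rw [← toV_step hA, toV_of_nrm (Nat.eq_of_beq_eq_true h)]

theorem fxB_false {A : List ℕ} (hA : good A = true) {v : ℕ} (h : fxB A v = false) : toM A ≠ 1 := by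
  intro h1
  have h2 : nrm (step A v 0) = nrm v := nrm_eq (by rw [toV_step hA, h1, vecMul_one])
  rw [fxB, h2, Nat.beq_refl] at h
  exact absurd h (by decide)

/-- `w` is fixed and not orthogonal to `v` -/
def mvB (A : List ℕ) (v w : ℕ) : Bool := fxB A w && !Nat.beq (fmN v w) 0

theorem mvB_spec {A : List ℕ} (hA : good A = true) {v w : ℕ} (h : mvB A v w = true) :
    toV w ᵥ* toM A = toV w ∧ fm (toV v) (toV w) ≠ 0 := by
  rw [mvB, Bool.and_eq_true] at h
  refine ⟨fxB_spec hA h.1, fun h1 => ?_⟩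
  rw [← fmN_eq, ZMod.natCast_eq_zero_iff] at h1
  have h2 : fmN v w = 0 := Nat.eq_zero_of_dvd_of_lt h1 (fmN_lt v w)
  rw [h2] at h
  exact absurd h.2 (by decide)

/-! ### The fixed rows -/

/-- the rows supported on the first `n` places -/
def cub : ℕ → List ℕ
  | 0 => [0]
  | n + 1 => cub n ++ ((cub n).map (fun a => a + 256 ^ n) ++ (cub n).map fun a => a + 2 * 256 ^ n)

theorem cub_realised : True := by have := @cub.eq_def; trivial

theorem length_cub : ∀ n, (cub n).length = 3 ^ n
  | 0 => rfl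
  | n + 1 => by
    rw [cub, List.length_append, List.length_append, List.length_map, List.length_map, length_cub n]
    ring

theorem mem_cub (d : ℕ → ℕ) (hd : ∀ j, d j < 3) : ∀ n, ∑ j ∈ Finset.range n, d j * 256 ^ j ∈ cub n
  | 0 => List.mem_singleton.2 rfl
  | n + 1 => by
    have h := mem_cub d hd n
    have h1 := hd n
    rw [Finset.sum_range_succ, cub, List.mem_append, List.mem_append]
    interval_cases d n
    · exact Or.inl (by rwa [zero_mul, add_zero])
    · exact Or.inr (Or.inl (List.mem_map.2 ⟨_, h, by rw [one_mul]⟩))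
    · exact Or.inr (Or.inr (List.mem_map.2 ⟨_, h, rfl⟩))

theorem dg_of_lt {a f j : ℕ} (h : a < 256 ^ f) (hj : f ≤ j) : dg a j = 0 := by
  unfold dg
  rw [Nat.div_eq_of_lt (h.trans_le (Nat.pow_le_pow_right (by norm_num) hj)), Nat.zero_mod]

theorem exists_cub {f : ℕ} {u : V12} (h : ∀ j, f ≤ ix j → u j = 0) : ∃ a ∈ cub f, toV a = u := by
  let d : ℕ → ℕ := fun j => if h : j < 12 then (u (finSumFinEquiv.symm ⟨j, h⟩)).val else 0
  have hd : ∀ j, d j < 3 := fun j => by
    by_cases h : j < 12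
    · simp only [d, dif_pos h]
      exact ZMod.val_lt _
    · simp only [d, dif_neg h]
      norm_num
  obtain ⟨h1, h2⟩ := sum_digits f d fun j _ => (hd j).trans (by norm_num)
  refine ⟨_, mem_cub d hd f, funext fun i => ?_⟩
  unfold toV
  rcases lt_or_ge (ix i) f with h3 | h3
  · rw [h2 _ h3]
    simp only [d, dif_pos (ix_lt i)]
    rw [ZMod.natCast_zmod_val]
    exact congrArg u (finSumFinEquiv.symm_apply_apply i)
  · rw [dg_of_lt h1 h3, Nat.cast_zero, h i h3]

/-- the certificate: the rows of `T b` span the fixed rows of `T a`; `1 = (1 - A) (T (b+1)) + T (b+2) * T b` -/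
def fixB (T : ℕ → List ℕ) (a b f : ℕ) : Bool :=
  eqB T 1 [b, a] [b] && zsum T [(1, [b + 1]), (2, [a, b + 1]), (1, [b + 2, b]), (2, [])] &&
    (T (b + 2)).all fun r => decide (r < 256 ^ f)

/-- the fixed rows -/
def fixL (T : ℕ → List ℕ) (b f : ℕ) : List ℕ := (cub f).map fun c => step (T b) c 0

theorem fix_iff {T : ℕ → List ℕ} (hT : ∀ i, good (T i) = true) {a b f : ℕ} (h : fixB T a b f = true) (u : V12) :
    u ᵥ* toM (T a) = u ↔ u ∈ (fixL T b f).map toV := by
  rw [fixB, Bool.and_eq_true, Bool.and_eq_true] at h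
  obtain ⟨⟨h1, h2⟩, h3⟩ := h
  have h4 := eqB_wm hT h1
  rw [wm_cons, wm_one, wm_one] at h4
  have h5 := zsum_spec hT h2
  have e2 : ((2 : ℕ) : ZMod 3) = -1 := by decide
  simp only [List.map_cons, List.map_nil, List.sum_cons, List.sum_nil, Nat.cast_one, one_smul, wm_cons, wm_nil,
    mul_one, e2, neg_one_smul, add_zero] at h5
  unfold fixL
  rw [List.map_map, List.mem_map]
  constructor
  · intro hu
    obtain ⟨c, hc, h6⟩ := exists_cub (f := f) (u := u ᵥ* toM (T (b + 2))) fun j hj => by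
      show ∑ i, u i * toM (T (b + 2)) i j = 0
      refine Finset.sum_eq_zero fun i _ => ?_
      have h7 : (T (b + 2)).getD (ix i) 0 < 256 ^ f := by
        rcases lt_or_ge (ix i) (T (b + 2)).length with h8 | h8
        · rw [List.getD_eq_getElem _ _ h8]
          exact of_decide_eq_true (List.all_eq_true.1 h3 _ (List.getElem_mem _))
        · rw [List.getD_eq_default _ _ h8]
          positivity
      show u i * ((dg ((T (b + 2)).getD (ix i) 0) (ix j) : ℕ) : ZMod 3) = 0
      rw [dg_of_lt h7 hj, Nat.cast_zero, mul_zero]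
    refine ⟨c, hc, ?_⟩
    have h7 := congrArg (fun S => u ᵥ* S) h5
    simp only [vecMul_add, vecMul_neg, ← vecMul_vecMul, hu, vecMul_one, vecMul_zero] at h7
    show toV (step (T b) c 0) = u
    rw [toV_step (hT b), h6]
    linear_combination (exp := 1) h7
  · rintro ⟨c, -, rfl⟩
    show toV (step (T b) c 0) ᵥ* _ = toV (step (T b) c 0)
    rw [toV_step (hT b), vecMul_vecMul, h4]

theorem card_fix {T : ℕ → List ℕ} (hT : ∀ i, good (T i) = true) {a b f : ℕ} (h : fixB T a b f = true) :
    Nat.card {u : V12 // u ᵥ* toM (T a) = u} ≤ 3 ^ f := by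
  classical
  rw [Nat.card_congr (Equiv.subtypeEquivRight fun u => (fix_iff hT h u).trans List.mem_toFinset.symm),
    Nat.card_eq_finsetCard]
  refine (List.toFinset_card_le _).trans ?_
  rw [List.length_map, fixL, List.length_map, length_cub]

/-- the short fixed rows -/
def shL (shB : ℕ → Bool) (T : ℕ → List ℕ) (b f : ℕ) : List ℕ := ((fixL T b f).filter shB).map nrm

/-- the character sum -/
def ssN (l : List ℕ) (v : ℕ) : ℤ := (l.map fun u => if fmN u v = 0 then (2 : ℤ) else -1).sum

theorem mem_shL {shB : ℕ → Bool} (O : OrbBox shB) {T : ℕ → List ℕ} (hT : ∀ i, good (T i) = true) {a b f : ℕ}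
    (h : fixB T a b f = true) (u : V12) : u ∈ shF (toM (T a)) ↔ u ∈ (shL shB T b f).map toV := by
  rw [mem_shF, fix_iff hT h, shL, List.map_map, List.mem_map, List.mem_map]
  constructor
  · rintro ⟨h1, c, hc, rfl⟩
    exact ⟨c, List.mem_filter.2 ⟨hc, (O.iff c).2 h1⟩, toV_nrm c⟩
  · rintro ⟨c, hc, rfl⟩
    obtain ⟨h1, h2⟩ := List.mem_filter.1 hc
    rw [Function.comp_apply, toV_nrm]
    exact ⟨(O.iff c).1 h2, c, h1, rfl⟩

theorem SS_list {shB : ℕ → Bool} (O : OrbBox shB) {T : ℕ → List ℕ} (hT : ∀ i, good (T i) = true) {a b f : ℕ}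
    (h : fixB T a b f = true) {l : List ℕ} (hl : shL shB T b f = l) (hn : (l.map nrm).Nodup) (v : ℕ) :
    SS (toM (T a)) (toV v) = ssN l v := by
  classical
  have h1 : shF (toM (T a)) = (l.map toV).toFinset := by
    ext u
    rw [mem_shL O hT h, hl, List.mem_toFinset]
  unfold SS ssN
  rw [h1, List.sum_toFinset _ (nodup_toV hn), List.map_map]
  refine congrArg List.sum (List.map_congr_left fun u _ => ?_)
  rw [Function.comp_apply, rr, ← fmN_eq]
  have h2 : ((fmN u v : ℕ) : ZMod 3) = 0 ↔ fmN u v = 0 := by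
    rw [ZMod.natCast_eq_zero_iff]
    exact ⟨fun h3 => Nat.eq_zero_of_dvd_of_lt h3 (fmN_lt u v), fun h3 => h3 ▸ dvd_zero 3⟩
  simp only [h2]

theorem shF_empty {shB : ℕ → Bool} (O : OrbBox shB) {T : ℕ → List ℕ} (hT : ∀ i, good (T i) = true) {a b f : ℕ}
    (h : fixB T a b f = true) (hl : shL shB T b f = []) : shF (toM (T a)) = ∅ := by
  ext u
  rw [mem_shL O hT h, hl]
  simp

/-! ### Counting -/

namespace Mod

variable {D : Type*} [Group D] {m : Mod D} {P : D → Prop} {T : ℕ → List ℕ} {n : ℕ}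

theorem All.word (hP : ∀ g h, P g → P (h⁻¹ * g * h)) (t : Tab T n) {a : ℕ} {gs : List ℕ}
    (hg : (gs.all fun i => eqW T n 1 [a, i] [i, a]) = true) : ∀ (w : List ℕ) (v : ℕ), (∀ i ∈ w, i ∈ gs) →
      m.All P (gl T a) (toV v) → m.All P (gl T a) (toV (ev T w v))
  | [], _, _, h => h
  | i :: w, v, hw, h => by
    have h1 := List.all_eq_true.1 hg i (hw i List.mem_cons_self)
    have h2 : i < n := by
      rw [eqW, Bool.and_eq_true, Bool.and_eq_true] at h1
      exact of_decide_eq_true (List.all_eq_true.1 h1.1.2 i List.mem_cons_self)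
    have h3 := h.move hP (t.mem h2) (t.mul h1)
    rw [t.coe h2, ← toV_step (t.good i)] at h3
    exact All.word hP t hg w _ (fun j hj => hw j (List.mem_cons_of_mem _ hj)) h3

/-- **the number of the elements over the class of `T a`** : full cosets -/
theorem count_many [Finite D] (hP : ∀ g h, P g → P (h⁻¹ * g * h)) (t : Tab T n) {a b f φ c : ℕ} (ha : a < n)
    (hc : CW (gl T a) ≤ c) (hf : f ≤ 12) (hF : fixB T a b f = true) (hφ : eqB T 1 [a, φ] [φ] = true) {L : List ℕ}
    (hL : ∀ v ∈ L, m.All P (gl T a) (toV v)) (hn : (L.map fun v => nrm (step (T φ) v 0)).Nodup) :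
    896690995200 / c * (L.length * 3 ^ (12 - f) * 3) ≤ Nat.card {g : D // P g} := by
  obtain ⟨k, hk, hR⟩ := m.R_surj _ (t.mem ha)
  have h1 : (m.R k : M12) = toM (T a) := by rw [hR, t.coe ha]
  have h2 := eqB_wm t.good hφ
  rw [wm_cons, wm_one] at h2
  have h3 := fib_many hP hk hf (by rw [h1]; exact card_fix t.good hF) (Φ := toM (T φ)) (by rw [h1, h2])
    (L := L.map toV) (fun v hv => by
      obtain ⟨u, hu, rfl⟩ := List.mem_map.1 hv
      exact hL u hu k hk hR) (by
      have h4 := nodup_toV (l := L.map fun v => step (T φ) v 0) (by rw [List.map_map]; exact hn)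
      rw [List.map_map] at h4 ⊢
      have h5 : ((fun v => v ᵥ* toM (T φ)) ∘ toV) = toV ∘ fun v => step (T φ) v 0 :=
        funext fun v => (toV_step (t.good φ) v).symm
      rwa [h5])
  rw [List.length_map] at h3
  exact count hP hk (by rw [hR]; exact hc) h3

/-- **the number of the elements over the class of `T a`** : one class under `N` -/
theorem count_one [Finite D] (hP : ∀ g h, P g → P (h⁻¹ * g * h)) (t : Tab T n) {a b f c : ℕ} (ha : a < n)
    (hc : CW (gl T a) ≤ c) (hf : f ≤ 12) (hF : fixB T a b f = true) {k : D} (hk : m.K k) (hR : m.R k = gl T a)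
    (h : P k) : 896690995200 / c * 3 ^ (12 - f) ≤ Nat.card {g : D // P g} :=
  count hP hk (by rw [hR]; exact hc) (fib_one hP hk h hf (by rw [hR, t.coe ha]; exact card_fix t.good hF))

end Mod

end Cfsg.Agent.TAB.C3B
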