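import Cfsg.Agent.TAB.C3B.Mx

/-!
# TAB / C(3B): the interface (helper15)

* `Mod D` : coordinates on a group `D = 3^(1+12).2Suz`; rows are acted on from the right;
* `Sh`, `Lg`, `OrbBox` : the orbits of `W = 2Suz` on the rows;
* `CW`, `CenBox` : the centralizers in `W`.
-/

set_option autoImplicit false

namespace Cfsg.Agent.TAB.C3B

open Matrix Cfsg.Agent.H920.Sz12

/-- invertible matrices -/
abbrev GL12 : Type := GL I12 (ZMod 3)

/-- the product of a word in the generators -/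
def wG (w : List ℕ) : GL12 := (w.map G).prod

theorem coe_wG (w : List ℕ) : ((wG w : GL12) : M12) = wm M w := coe_prod w

theorem wG_mem {w : List ℕ} (h : ∀ i ∈ w, i < 7) : wG w ∈ W := by
  refine W.list_prod_mem fun y hy => ?_
  obtain ⟨i, hi, rfl⟩ := List.mem_map.1 hy
  exact G_mem_W (h i hi)

theorem neg_one_mem_W : (-1 : GL12) ∈ W := scalars_le_W neg_one_mem

theorem neg_mem_W {A : GL12} (h : A ∈ W) : -A ∈ W := by
  rw [← neg_one_mul]
  exact W.mul_mem neg_one_mem_W h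

/-- **The model of `C(3B)`.**  `X a` are the powers of the central element of order 3, `β v * X a` are the elements
of `N = 3^(1+12)`, `R` is the action on `N / Z(N)`. -/
structure Mod (D : Type*) [Group D] where
  /-- the involution inverting `N / Z(N)` -/
  z : D
  /-- the centre -/
  X : ZMod 3 → D
  /-- the elements of `N` inverted by `z` -/
  β : V12 → D
  /-- the action -/
  R : D →* GL12
  X_add : ∀ a b, X (a + b) = X a * X b
  X_inj : ∀ a, X a = 1 → a = 0
  X_cen : ∀ a g, g * X a = X a * g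
  zz : z * z = 1
  β_mul : ∀ u v, β u * β v = β (u + v) * X (fm u v)
  β_inj : ∀ v a, β v = X a → v = 0
  conj : ∀ k, k * z = z * k → ∀ v, k⁻¹ * β v * k = β (v ᵥ* (R k : M12))
  R_z : R z = -1
  R_β : ∀ v, R (β v) = 1
  R_X : ∀ a, R (X a) = 1
  R_mem : ∀ g, R g ∈ W
  R_surj : ∀ A ∈ W, ∃ k, k * z = z * k ∧ R k = A
  R_ker : ∀ k, k * z = z * k → R k = 1 → ∃ a, k = X a
  dec : ∀ g, ∃ k v, k * z = z * k ∧ g = k * β v
  nr : ∀ k, k * z = z * k → ∀ a, k ^ 3 = X a → a = 0

/-- a short row -/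
def s0 : V12 := toV 1

/-- a long row -/
def l0 : V12 := toV 0x10101

/-- the short rows -/
def Sh (u : V12) : Prop := ∃ A ∈ W, u = s0 ᵥ* ((A : GL12) : M12)

/-- the long rows -/
def Lg (u : V12) : Prop := ∃ A ∈ W, u = l0 ᵥ* ((A : GL12) : M12)

/-- the orbits, with a test `shB` that the kernel can run on the numbers of `toV` (digits not reduced) -/
structure OrbBox (shB : ℕ → Bool) : Prop where
  iff : ∀ n, shB n = true ↔ Sh (toV n)
  cover : ∀ u : V12, u = 0 ∨ Sh u ∨ Lg u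
  card : Nat.card {u : V12 // Sh u} = 65520
  perp : Nat.card {u : V12 // Sh u ∧ fm u s0 = 0} = 22266

/-- the order of the centralizer in `W` -/
noncomputable def CW (A : GL12) : ℕ := Nat.card ↥(W ⊓ Subgroup.centralizer ({A} : Set GL12))

/-- the word of a commutator, up to the sign -/
def cmW (a b : List ℕ) : List ℕ := a ++ b ++ a.reverse ++ b.reverse

/-- the centralizers; the numbers are the positions in `H123.Cls.SuzDat.W` -/
structure CenBox : Prop where
  c36 : CW (wG (cmW [3] [4])) ≤ 19595520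
  c4 : CW (wG (cmW [2] [1, 6, 5, 3, 1])) ≤ 69984
  c20 : CW (wG (cmW [6, 5, 3] [2, 1])) ≤ 108
  c21 : CW (wG (cmW [4, 2, 1] [6, 3, 5])) ≤ 36
  c32 : CW (wG (cmW [5, 3, 1, 6] [1, 2])) ≤ 2592
  c28 : CW (wG (cmW [4, 2] [3])) ≤ 6912
  c24 : CW (wG (cmW [2, 1, 5] [3, 1, 0])) ≤ 48
  c0 : CW (wG (cmW [5] [6])) ≤ 6635520
  c33 : CW (wG (cmW [1, 6] [5, 2])) ≤ 1536
  c23 : CW (wG (cmW [4, 3, 0, 2, 1, 6, 0] [3, 6, 1, 2, 5, 4])) ≤ 32

end Cfsg.Agent.TAB.C3B
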