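import Cfsg.Agent.H920.Sz12.Form

/-!
# TAB / C(3B): small tools for `12 × 12` matrices over `ZMod 3` (helper15)

* `tab L` : a table of matrices; `wm L w` : the product of a word; `zsum` : a linear combination of words vanishes;
* `fm` : the alternating form on rows; `fmN` : its evaluation;
* `scalar_of_comm` : a matrix commuting with `a, c, d, e, f, babfab` is a scalar.
-/

set_option autoImplicit false
set_option Elab.async false

namespace Cfsg.Agent.TAB.C3B

open Matrix Cfsg.Agent.H920.Sz12

/-- rows -/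
abbrev V12 : Type := I12 → ZMod 3

/-- matrices -/
abbrev M12 : Type := Matrix I12 I12 (ZMod 3)

/-- a table of matrices -/
def tab (L : List (List ℕ)) (i : ℕ) : List ℕ := L.getD i idR

theorem good_id : good idR = true := by decide +kernel

theorem good_tab {L : List (List ℕ)} (h : L.all good = true) (i : ℕ) : good (tab L i) = true := by
  unfold tab
  rcases lt_or_ge i L.length with hi | hi
  · rw [List.getD_eq_getElem _ _ hi]
    exact List.all_eq_true.1 h _ (List.getElem_mem _)
  · rw [List.getD_eq_default _ _ hi]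
    exact good_id

/-- the product of a word -/
def wm (T : ℕ → List ℕ) (w : List ℕ) : M12 := (w.map fun i => toM (T i)).prod

theorem wm_nil (T : ℕ → List ℕ) : wm T [] = 1 := rfl

theorem wm_cons (T : ℕ → List ℕ) (i : ℕ) (w : List ℕ) : wm T (i :: w) = toM (T i) * wm T w := rfl

theorem wm_one (T : ℕ → List ℕ) (i : ℕ) : wm T [i] = toM (T i) := mul_one _

theorem wm_append (T : ℕ → List ℕ) (w w' : List ℕ) : wm T (w ++ w') = wm T w * wm T w' := by
  unfold wm
  rw [List.map_append, List.prod_append]

theorem toV_evw {T : ℕ → List ℕ} (hT : ∀ i, good (T i) = true) (w : List ℕ) (v : ℕ) :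
    toV (ev T w v) = toV v ᵥ* wm T w := toV_ev hT w v

theorem eqB_wm {T : ℕ → List ℕ} (hT : ∀ i, good (T i) = true) {w w' : List ℕ} (h : eqB T 1 w w' = true) :
    wm T w = wm T w' := by
  have h1 := eqB_spec hT h
  rw [Nat.cast_one, one_smul] at h1
  exact h1

theorem eqB_wm_neg {T : ℕ → List ℕ} (hT : ∀ i, good (T i) = true) {w w' : List ℕ} (h : eqB T 2 w w' = true) :
    wm T w = -wm T w' := by
  have h1 := eqB_spec hT h
  have e : ((2 : ℕ) : ZMod 3) = -1 := by decide
  rw [e, neg_one_smul] at h1
  exact h1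

/-- the linear combination vanishes -/
def zsum (T : ℕ → List ℕ) (l : List (ℕ × List ℕ)) : Bool :=
  (List.range 12).all fun i => (List.range 12).all fun j =>
    (l.map fun p => p.1 * dg (ev T p.2 (256 ^ i)) j).sum % 3 == 0

theorem zsum_spec {T : ℕ → List ℕ} (hT : ∀ i, good (T i) = true) {l : List (ℕ × List ℕ)} (h : zsum T l = true) :
    (l.map fun p => (p.1 : ZMod 3) • wm T p.2).sum = 0 := by
  refine Matrix.ext fun i j => ?_
  unfold zsum at h
  have h1 := List.all_eq_true.1 (List.all_eq_true.1 h (ix i) (List.mem_range.2 (ix_lt i))) (ix j)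
    (List.mem_range.2 (ix_lt j))
  rw [beq_iff_eq] at h1
  have h2 : (((l.map fun p => p.1 * dg (ev T p.2 (256 ^ ix i)) (ix j)).sum : ℕ) : ZMod 3) = 0 := by
    rw [← ZMod.natCast_mod, h1, Nat.cast_zero]
  rw [Matrix.zero_apply, ← h2]
  clear h h1 h2
  induction l with
  | nil => simp
  | cons p l ih =>
    rw [List.map_cons, List.sum_cons, List.map_cons, List.sum_cons, Matrix.add_apply, ih, Nat.cast_add, Nat.cast_mul,
      Matrix.smul_apply, smul_eq_mul]
    have h := congrFun (toV_evw hT p.2 (256 ^ ix i)) j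
    rw [toV_pow, single_one_vecMul] at h
    exact congrArg (fun t => (p.1 : ZMod 3) * t + _) h.symm

/-- the matrix of the form -/
abbrev JJ : M12 := Matrix.J (Fin 6) (ZMod 3)

/-- the alternating form on rows -/
def fm (u v : V12) : ZMod 3 := (u ᵥ* JJ) ⬝ᵥ v

theorem fm_add_left (u u' v : V12) : fm (u + u') v = fm u v + fm u' v := by
  unfold fm; rw [add_vecMul, add_dotProduct]

theorem fm_add_right (u v v' : V12) : fm u (v + v') = fm u v + fm u v' := by
  unfold fm; rw [dotProduct_add]

theorem fm_neg_left (u v : V12) : fm (-u) v = -fm u v := by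
  unfold fm; rw [neg_vecMul, neg_dotProduct]

theorem fm_neg_right (u v : V12) : fm u (-v) = -fm u v := by
  unfold fm; rw [dotProduct_neg]

theorem fm_sub_left (u u' v : V12) : fm (u - u') v = fm u v - fm u' v := by
  unfold fm; rw [sub_vecMul, sub_dotProduct]

theorem fm_sub_right (u v v' : V12) : fm u (v - v') = fm u v - fm u v' := by
  unfold fm; rw [dotProduct_sub]

theorem fm_zero_left (v : V12) : fm 0 v = 0 := by
  unfold fm; rw [zero_vecMul, zero_dotProduct]

theorem fm_zero_right (u : V12) : fm u 0 = 0 := by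
  unfold fm; rw [dotProduct_zero]

theorem fm_swap (u v : V12) : fm v u = -fm u v := by
  unfold fm
  rw [← dotProduct_mulVec, ← dotProduct_mulVec, dotProduct_comm, dotProduct_comm u, ← vecMul_transpose,
    Matrix.J_transpose, vecMul_neg, neg_dotProduct, ← dotProduct_mulVec, dotProduct_comm]

theorem fm_self (u : V12) : fm u u = 0 := by
  have h := fm_swap u u
  have h2 : ∀ a : ZMod 3, a = -a → a = 0 := by decide
  exact h2 _ h

theorem eq_zero_of_fm {u : V12} (h : ∀ v, fm u v = 0) : u = 0 := by
  have h1 : u ᵥ* JJ = 0 := by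
    funext j
    have := h (Pi.single j 1)
    unfold fm at this
    rwa [dotProduct_single, mul_one] at this
  have h2 : u ᵥ* (JJ * JJ) = 0 := by rw [← vecMul_vecMul, h1, zero_vecMul]
  rw [Matrix.J_squared, vecMul_neg, vecMul_one, neg_eq_zero] at h2
  exact h2

theorem fm_W {A : GL I12 (ZMod 3)} (hA : A ∈ W) (u v : V12) : fm (u ᵥ* (A : M12)) (v ᵥ* (A : M12)) = fm u v := by
  have h1 : (A : M12)ᵀ * JJ * A = JJ := Cfsg.Agent.H914.S6.transpose_J (W_le hA)
  have h2 : (A : M12) * JJ * (A : M12)ᵀ = JJ := by
    have h3 : (A : M12)ᵀ ∈ Matrix.symplecticGroup (Fin 6) (ZMod 3) := by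
      rw [SymplecticGroup.mem_iff, transpose_transpose]
      exact h1
    have h4 := SymplecticGroup.transpose_mem h3
    rw [transpose_transpose, SymplecticGroup.mem_iff] at h4
    exact h4
  unfold fm
  rw [vecMul_vecMul, ← mulVec_transpose (A : M12) v, dotProduct_mulVec, vecMul_vecMul, h2]

/-- the dot product of two numbers -/
def dotN (a b : ℕ) : ℕ := ((List.range 12).map fun j => dg a j * dg b j).sum

theorem dotN_eq (a b : ℕ) : (dotN a b : ZMod 3) = toV a ⬝ᵥ toV b := by
  have e : dotN a b = ∑ j ∈ Finset.range 12, dg a j * dg b j := by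
    unfold dotN
    rw [Finset.sum_range, List.sum_range_succ]
    simp [List.range_succ, Fin.sum_univ_succ]
    ring
  rw [e]
  unfold dotProduct toV
  rw [sum_ix (fun j => (dg a j : ZMod 3) * (dg b j : ZMod 3))]
  push_cast
  rfl

theorem good_j : good jR = true := by decide +kernel

/-- the form on numbers -/
def fmN (a b : ℕ) : ℕ := dotN (step jR a 0) b % 3

theorem fmN_eq (a b : ℕ) : (fmN a b : ZMod 3) = fm (toV a) (toV b) := by
  unfold fmN fm
  rw [ZMod.natCast_mod, dotN_eq, toV_step good_j, J_eq]

theorem fmN_lt (a b : ℕ) : fmN a b < 3 := Nat.mod_lt _ (by norm_num)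

/-! ### the commutant -/

/-- the tables of the certificate: `a … g`, `B`, `E`, `H = babfab`, `V`, `V⁻¹` -/
def cL : List (List ℕ) := [aR, bR, cR, dR, eR, fR, gR,
  [0x10201000001000101020000, 0x20002000200020001010002, 0x2020000000001020000, 0x100010201010000000002,
   0x20202010202000202000002, 0x10001020101000102020000, 0x20101020001000100000002, 0x20000010001020002000001,
   0x1010100020000020002, 0x20100020000010202020001, 0x0, 0x20200010002020202010001],
  [0x0, 0x10102020001000002020100, 0x0, 0x0, 0x0, 0x0, 0x0, 0x0, 0x0, 0x0, 0x0, 0x0],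
  [0x202000000000202010002, 0x10201000200020201010100, 0x20102000100020000020201, 0x10201010200020200010202,
   0x10102000001020202000201, 0x2010201010002020101, 0x100010001010200020200, 0x20102000101000100020000,
   0x101010100000201, 0x20201000202010200010001, 0x20102020000020100010000, 0x201010001010102010201],
  [0x10102020001000002020100, 0x201010000010201020001, 0x20101010001010201000002, 0x20201020001010201000001,
   0x20200010202020102010000, 0x20000010102020201010101, 0x10100000202000100010202, 0x20201020202000001000102,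
   0x10001000101010001010002, 0x10000000000020102020102, 0x10100010000020001020000, 0x10200010102000002000100],
  [0x200000100020100010100, 0x10000000200000201000101, 0x101000201000000020001, 0x20202000101010102000101,
   0x102000202000201010001, 0x10202020100010000000101, 0x20201020101020100020201, 0x20001000100000000010002,
   0x2000101020001010202, 0x101010000000101000102, 0x201000002000100020201, 0x20001020100010100020201]]

theorem good_cL : ∀ i, good (tab cL i) = true := good_tab (by decide +kernel)

/-- the spinning words -/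
def spW : List (List ℕ) := [[], [0], [2], [3], [4], [5], [9], [0, 3], [0, 4], [0, 9], [2, 3], [2, 4]]

theorem cL_H : wm (tab cL) [9] = wm (tab cL) [1, 0, 1, 5, 0, 1] := eqB_wm good_cL (by decide +kernel)

theorem scalar_of_comm {X : M12} (h : ∀ i ∈ [0, 2, 3, 4, 5], X * toM (M i) = toM (M i) * X)
    (h9 : X * wm M [1, 0, 1, 5, 0, 1] = wm M [1, 0, 1, 5, 0, 1] * X) : ∃ c : ZMod 3, X = c • 1 := by
  set T := tab cL with hT
  have hl : ∀ i ∈ [0, 2, 3, 4, 5, 9], X * toM (T i) = toM (T i) * X := by
    intro i hi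
    simp only [List.mem_cons, List.not_mem_nil, or_false] at hi
    rcases hi with rfl | rfl | rfl | rfl | rfl | rfl
    · exact h 0 (by simp)
    · exact h 2 (by simp)
    · exact h 3 (by simp)
    · exact h 4 (by simp)
    · exact h 5 (by simp)
    · rw [← wm_one, cL_H]
      exact h9
  have hw : ∀ w : List ℕ, (∀ i ∈ w, i ∈ [0, 2, 3, 4, 5, 9]) → X * wm T w = wm T w * X := by
    intro w
    induction w with
    | nil => intro _; rw [wm_nil, mul_one, one_mul]
    | cons i w ih =>
      intro hh
      rw [wm_cons, ← mul_assoc, hl i (hh i List.mem_cons_self), mul_assoc,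
        ih fun j hj => hh j (List.mem_cons_of_mem _ hj), mul_assoc]
  set a : M12 := wm T [2, 9, 5] + wm T [9, 9, 4] + wm T [2, 3, 0] with ha
  have hXa : X * a = a * X := by
    rw [ha, mul_add, mul_add, add_mul, add_mul, hw _ (by decide), hw _ (by decide), hw _ (by decide)]
  have e2 : ((2 : ℕ) : ZMod 3) = -1 := by decide
  have h1 : a * toM (T 7) + toM (T 8) = 1 := by
    have h2 := zsum_spec good_cL (l := [(1, [2, 9, 5] ++ [7]), (1, [9, 9, 4] ++ [7]), (1, [2, 3, 0] ++ [7]), (1, [8]),
      (2, [])]) (by decide +kernel)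
    simp only [List.map_cons, List.map_nil, List.sum_cons, List.sum_nil, Nat.cast_one, one_smul, wm_append, wm_one,
      wm_nil, e2, neg_one_smul, add_zero] at h2
    rw [ha, add_mul, add_mul, ← sub_eq_zero, ← h2]
    abel
  have h3 : toM (T 8) * a = 0 := by
    have h2 := zsum_spec good_cL (l := [(1, [8] ++ [2, 9, 5]), (1, [8] ++ [9, 9, 4]), (1, [8] ++ [2, 3, 0])])
      (by decide +kernel)
    simp only [List.map_cons, List.map_nil, List.sum_cons, List.sum_nil, Nat.cast_one, one_smul, wm_append, wm_one,
      add_zero] at h2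
    rw [ha, mul_add, mul_add, ← h2]
    abel
  have hE : toM (T 8) = vecMulVec (Pi.single (Sum.inl 1) 1) (toV 0x10102020001000002020100) := by
    refine Matrix.ext fun i j => ?_
    have h5 : ∀ i : I12, (tab cL 8).getD (ix i) 0 = if i = Sum.inl 1 then 0x10102020001000002020100 else 0 := by
      decide +kernel
    rw [vecMulVec_apply, Pi.single_apply]
    show ((dg ((tab cL 8).getD (ix i) 0) (ix j) : ℕ) : ZMod 3) = _
    rw [h5]
    split_ifs
    · rw [one_mul]; rfl
    · rw [zero_mul]; simp [dg]
  set v₀ : V12 := toV 0x10102020001000002020100 with hv₀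
  have hE1 : ∀ y : V12, y ᵥ* toM (T 8) = y (Sum.inl 1) • v₀ := by
    intro y
    rw [hE, vecMul_vecMulVec, dotProduct_single, mul_one]
  have h4 : v₀ ᵥ* a = 0 := by
    have h5 : (Pi.single (Sum.inl 1) 1 : V12) ᵥ* (toM (T 8) * a) = 0 := by rw [h3, vecMul_zero]
    rw [← vecMul_vecMul, hE1, Pi.single_eq_same, one_smul] at h5
    exact h5
  have h5 : v₀ ᵥ* X = (v₀ ᵥ* X) (Sum.inl 1) • v₀ := by
    rw [← hE1]
    have h6 : (v₀ ᵥ* X) ᵥ* a = 0 := by rw [vecMul_vecMul, hXa, ← vecMul_vecMul, h4, zero_vecMul]
    conv_lhs => rw [← vecMul_one (v₀ ᵥ* X), ← h1, vecMul_add, ← vecMul_vecMul, h6, zero_vecMul, zero_add]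
  set c := (v₀ ᵥ* X) (Sum.inl 1) with hc
  have hrow : ∀ k : I12, toM (T 10) k = v₀ ᵥ* wm T (spW.getD (ix k) []) := by
    intro k
    have h6 : ((List.range 12).all fun k => same 1 (ev (tab cL) (spW.getD k []) 0x10102020001000002020100)
        ((tab cL 10).getD k 0)) = true := by decide +kernel
    have h7 := toV_same (List.all_eq_true.1 h6 (ix k) (List.mem_range.2 (ix_lt k)))
    rw [toV_evw good_cL, Nat.cast_one, one_smul] at h7
    exact h7.symm
  have h6 : toM (T 10) * X = c • toM (T 10) := by
    refine Matrix.ext fun k j => ?_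
    have h7 : (toM (T 10) * X) k = toM (T 10) k ᵥ* X := by
      funext j
      rfl
    have h8 : ∀ i ∈ spW.getD (ix k) [], i ∈ [0, 2, 3, 4, 5, 9] := by
      have h9 : ∀ k : I12, ∀ i ∈ spW.getD (ix k) [], i ∈ [0, 2, 3, 4, 5, 9] := by decide +kernel
      exact h9 k
    rw [h7, Matrix.smul_apply, hrow, vecMul_vecMul, ← hw _ h8, ← vecMul_vecMul, h5, smul_vecMul]
    rfl
  have h7 : toM (T 11) * toM (T 10) = 1 := by
    have := eqB_wm good_cL (w := [11, 10]) (w' := []) (by decide +kernel)
    rwa [wm_cons, wm_one, wm_nil] at this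
  refine ⟨c, ?_⟩
  rw [← one_mul X, ← h7, mul_assoc, h6, mul_smul_comm]

end Cfsg.Agent.TAB.C3B
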