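import Cfsg.Agent.TAB.C3B.Dat

/-!
# TAB / C(3B): the values of the trace and the numbers of the elements (helper15)
-/

set_option autoImplicit false
set_option maxRecDepth 100000

namespace Cfsg.Agent.TAB.C3B

open Matrix Cfsg Cfsg.Agent.H920.Sz12 Cfsg.Agent.TAB.C3B.Dat Cfsg.Agent.TAB.C3B.Mod

variable {D : Type*} [Group D]

/-- what is known about the trace `V`; `E g` : `g` commutes with an involution of class 2B -/
structure Env (m : Mod D) (V : D → ℤ) (E : D → Prop) : Prop where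
  char : IsCharacter D fun g => (V g : ℂ)
  one : V 1 = 196884
  x : V (m.X 1) = 54
  E_z : ∀ g, m.K g → E g
  E_two : ∀ y g, y ^ 2 = 1 → y ≠ 1 → V y ≠ 4372 → g * y = y * g → E g
  E_three : ∀ y g, y ^ 2 = 1 → y ≠ 1 → g ^ 3 = 1 → g * y = y * g → E g
  c3 : ∀ g, E g → orderOf g = 3 → V g = 0 ∨ V g = 54 ∨ V g = 783
  c6 : ∀ g, E g → orderOf g = 6 → V (g ^ 2) = 54 → V (g ^ 3) = 4372 → V g = -2
  c9 : ∀ g, E g → orderOf g = 9 → V g = 0 ∨ V g = 27
  c12 : ∀ g, E g → orderOf g = 12 → V (g ^ 4) = 54 → V (g ^ 6) = 4372 → V g = -2 ∧ V (g ^ 2) = -2 ∧ V (g ^ 3) = 52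
  c18 : ∀ g, E g → orderOf g = 18 → V (g ^ 9) = 4372 →
    V (g ^ 3) = -2 ∧ (V g = -2 ∧ V (g ^ 2) = 0 ∨ V g = 7 ∧ V (g ^ 2) = 27)
  c24 : ∀ g, E g → orderOf g = 24 → V (g ^ 12) = 4372 →
    V g = 0 ∧ V (g ^ 2) = -2 ∧ V (g ^ 3) = 0 ∧ V (g ^ 4) = -2 ∧ V (g ^ 6) = 52
  c36 : ∀ g, E g → orderOf g = 36 → V (g ^ 18) = 4372 →
    V g = 1 ∧ V (g ^ 2) = 7 ∧ V (g ^ 3) = -2 ∧ V (g ^ 4) = 27 ∧ V (g ^ 6) = -2 ∧ V (g ^ 9) = 52
  c54 : ∀ g, E g → orderOf g ≠ 54

/-- `g` has the order `3 e`, the given traces of the powers, and `g ^ e = X 1` -/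
def Gd (m : Mod D) (V : D → ℤ) (e : ℕ) (l : List (ℕ × ℤ)) (g : D) : Prop :=
  (orderOf g = 3 * e ∧ ∀ p ∈ l, V (g ^ p.1) = p.2) ∧ g ^ e = m.X 1

theorem conj_pow' (g h : D) (n : ℕ) : (h⁻¹ * g * h) ^ n = h⁻¹ * g ^ n * h := by
  have := conj_pow (i := n) (a := h⁻¹) (b := g)
  rwa [_root_.inv_inv] at this

theorem ord_of {g : D} {n : ℕ} (hn : n ∣ 216) (h : g ^ n = 1) (h2 : 2 ∣ n → g ^ (n / 2) ≠ 1)
    (h3 : 3 ∣ n → g ^ (n / 3) ≠ 1) : orderOf g = n := by
  refine orderOf_eq_of_pow_and_pow_div_prime (Nat.pos_of_dvd_of_pos hn (by norm_num)) h fun p hp hpn => ?_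
  have h4 : p ∣ 2 * 3 := hp.dvd_of_dvd_pow (n := 3) (hpn.trans hn)
  rcases (Nat.Prime.dvd_mul hp).1 h4 with h5 | h5
  · rw [(Nat.prime_dvd_prime_iff_eq hp Nat.prime_two).1 h5] at hpn ⊢
    exact h2 hpn
  · rw [(Nat.prime_dvd_prime_iff_eq hp Nat.prime_three).1 h5] at hpn ⊢
    exact h3 hpn

variable {m : Mod D} {V : D → ℤ} {E : D → Prop}

theorem X_one_ne : m.X 1 ≠ 1 := fun h => one_ne_zero (m.X_inj 1 h)

theorem ord_X {g : D} {e : ℕ} (he : 3 * e ∣ 216) (h : g ^ e = m.X 1) (h2 : 2 ∣ 3 * e → g ^ (3 * e / 2) ≠ 1) :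
    orderOf g = 3 * e := by
  refine ord_of he ?_ h2 fun _ => ?_
  · rw [mul_comm, pow_mul, h, m.X_pow, show ((3 : ℕ) : ZMod 3) * 1 = 0 by decide, m.X_zero]
  · rw [Nat.mul_div_cancel_left _ (by norm_num), h]
    exact X_one_ne

theorem lift {i : ℕ} (hi : i < 33) : ∃ k, m.K k ∧ m.R k = gl T i := m.R_surj _ (Dat.tab.mem hi)

theorem Rm {k : D} {i : ℕ} (hi : i < 33) (h : m.R k = gl T i) : (m.R k : M12) = toM (T i) := by
  rw [h, Dat.tab.coe hi]

theorem ne_one {g : D} {i : ℕ} (hi : i < 33) (h : m.R g = gl T i) (hf : fxB (T i) 1 = false) : g ≠ 1 := by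
  rintro rfl
  exact fxB_false (Dat.tab.good i) hf (by rw [← Rm hi h, map_one, Units.val_one])

theorem R_pow {g : D} {i j n : ℕ} (h : m.R g = gl T i) (e : eqW T 33 1 (List.replicate n i) [j] = true) :
    m.R (g ^ n) = gl T j := by
  rw [map_pow, h, Dat.tab.pow e]

theorem pow_X {k : D} (hk : m.K k) {a n v r : ℕ} (ha : a < 33) (hR : m.R k = gl T a)
    (h1 : eqW T 33 1 (List.replicate (3 * n) a) [] = true) (h2 : pqB (T a) v (3 * n) r = true) (c : ZMod 3) :
    m.el k (toV v) c ^ (3 * n) = m.X r := by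
  obtain ⟨h3, h4⟩ := pqB_spec (Dat.tab.good a) h2
  rw [el_pow hk, pow_eq_one hk (by rw [hR, Dat.tab.pow_one h1]), Rm ha hR, h3, h4, el_zero, one_mul, Nat.cast_mul,
    show ((3 : ℕ) : ZMod 3) = 0 by decide, zero_mul, zero_mul, add_zero]

theorem pow_el {k : D} (hk : m.K k) {a n v s : ℕ} (ha : a < 33) (hR : m.R k = gl T a) (h : psB (T a) v n s = true)
    (c : ZMod 3) : ∃ d, m.el k (toV v) c ^ n = m.el (k ^ n) (toV s) d :=
  ⟨_, by rw [el_pow hk, Rm ha hR, psB_spec (Dat.tab.good a) h]⟩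

theorem th_three (k : D) : m.th V k 0 = V k + V (k * m.X 1) + V (k * m.X 2) := by
  unfold th
  rw [show (Finset.univ : Finset (ZMod 3)) = {0, 1, 2} by decide, Finset.sum_insert (by decide),
    Finset.sum_pair (by decide), el_zero, el_zero, el_zero, m.X_zero, mul_one, add_assoc]

theorem β_cube (v : V12) : m.β v ^ 3 = 1 := by
  have h : v + v + v = 0 := funext fun j => z3_three (v j)
  rw [pow_succ, pow_two, m.β_mul, fm_self, m.X_zero, mul_one, m.β_mul, h, fm_add_left, fm_self, add_zero, m.X_zero,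
    m.β_zero, mul_one]

theorem comm_of_cop {k y : D} (hk : m.K k) (hy : m.K y) {n : ℕ} (hn : (n : ZMod 3) ≠ 0) (hyn : y ^ n = 1)
    (h : m.R k * m.R y = m.R y * m.R k) : k * y = y * k := by
  obtain ⟨a, ha⟩ := conj_of_comm hk hy h
  have h1 : k * y = y * k * m.X a := by rw [mul_assoc, ← ha]; group
  have h2 : ∀ j : ℕ, k * y ^ j = y ^ j * k * m.X (j * a) := by
    intro j
    induction j with
    | zero => rw [pow_zero, mul_one, one_mul, Nat.cast_zero, zero_mul, m.X_zero, mul_one]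
    | succ j ih =>
      rw [pow_succ, ← mul_assoc, ih, mul_assoc _ (m.X _), ← m.X_cen, ← mul_assoc, mul_assoc _ k y, h1, Nat.cast_succ,
        add_mul, one_mul, add_comm, m.X_add]
      group
  have h3 := h2 n
  rw [hyn, mul_one, one_mul, left_eq_mul] at h3
  rw [h1, (mul_eq_zero.1 (m.X_inj _ h3)).resolve_left hn, m.X_zero, mul_one]

namespace Env

variable [Finite D] (H : Env m V E)
include H

omit [Finite D] in
theorem hc (g h : D) : V (h⁻¹ * g * h) = V g := V_conj H.char g h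

omit [Finite D] in
theorem gd_conj (e : ℕ) (l : List (ℕ × ℤ)) (g h : D) (hg : Gd m V e l g) : Gd m V e l (h⁻¹ * g * h) := by
  refine ⟨⟨?_, fun p hp => by rw [conj_pow', H.hc, hg.1.2 p hp]⟩, ?_⟩
  · have h1 := Eng.orderOf_conj' g h⁻¹
    rw [_root_.inv_inv] at h1
    rw [h1, hg.1.1]
  · rw [conj_pow', hg.2, m.X_cen, inv_mul_cancel_right]

omit [Finite D] in
theorem val_conj (n : ℤ) (g h : D) (hg : V g = n) : V (h⁻¹ * g * h) = n := by rw [H.hc, hg]

theorem x2 : V (m.X 2) = 54 := by rw [show (2 : ZMod 3) = -1 by decide, m.X_neg, V_inv H.char, H.x]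

theorem mult : Mult m V := by
  have hp : Fact (Nat.Prime 3) := ⟨Nat.prime_three⟩
  refine Mod.mult H.char orbBox H.one H.x ?_
  have h0 : Sh (toV us) := (orbBox.iff us).1 (by decide +kernel)
  obtain ⟨A, hA, h1⟩ := id h0
  obtain ⟨l, hl, rfl⟩ := m.R_surj A hA
  rw [← H.hc _ l, m.conj l hl, ← h1]
  obtain ⟨y, hy, hR, hy2⟩ := exists_lift (m := m) (Dat.tab.mem (i := 0) (by norm_num)) (n := 2) (by decide)
    (Dat.tab.pow_one (by decide +kernel))
  have h2 := comm_el (k := 1) hy (by rw [one_mul, mul_one]) (v := toV us) (by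
    rw [Rm (by norm_num) hR]
    exact fxB_spec (Dat.tab.good 0) (by decide +kernel)) 0
  rw [el, one_mul, m.X_zero, mul_one] at h2
  refine H.c3 _ (H.E_three y _ hy2 (ne_one (by norm_num) hR (by decide +kernel)) (β_cube _) h2)
    (orderOf_eq_prime (β_cube _) fun h => h0.ne (m.β_inj _ 0 (by rw [h, m.X_zero])))

/-- the product of an involution of class 2A with the centre -/
theorem six {y : D} (hy : m.K y) (hy2 : y ^ 2 = 1) (hV : V y = 4372) {c : ZMod 3} (hc : c ≠ 0) :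
    orderOf (y * m.X c) = 6 ∧ V (y * m.X c) = -2 ∧ (y * m.X c) ^ 3 = y := by
  have h1 : (y * m.X c) ^ 2 = m.X (-c) := by
    rw [(m.X_comm c y).mul_pow, hy2, one_mul, m.X_pow]
    exact congrArg m.X (by revert c; decide)
  have h2 : (y * m.X c) ^ 3 = y := by
    rw [(m.X_comm c y).mul_pow, m.X_pow, show ((3 : ℕ) : ZMod 3) = 0 by decide, zero_mul, m.X_zero, mul_one, pow_succ,
      hy2, one_mul]
  have h3 : orderOf (y * m.X c) = 6 := by
    refine ord_of (by norm_num) (by rw [show 6 = 3 * 2 by norm_num, pow_mul, h2, hy2]) (fun _ => ?_) fun _ => ?_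
    · rw [show 6 / 2 = 3 by norm_num, h2]
      rintro rfl
      rw [H.one] at hV
      norm_num at hV
    · rw [show 6 / 3 = 2 by norm_num, h1]
      exact fun h => hc (neg_eq_zero.1 (m.X_inj _ h))
  refine ⟨h3, H.c6 _ (H.E_z _ (hy.mul_X c)) h3 ?_ (by rw [h2, hV]), h2⟩
  have h4 : ∀ c : ZMod 3, c ≠ 0 → -c = 1 ∨ -c = 2 := by decide
  rw [h1]
  rcases h4 c hc with h5 | h5
  · rw [h5, H.x]
  · rw [h5, H.x2]

theorem inv4 (y : D) (hy2 : y ^ 2 = 1) (hR : m.R y = gl T 12) : V y ≠ 4372 := by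
  obtain ⟨y₀, h1, h2, h3⟩ := exists_lift (m := m) (Dat.tab.mem (i := 12) (by norm_num)) (n := 2) (by decide)
    (Dat.tab.pow_one (by decide +kernel))
  obtain ⟨h, rfl⟩ := conj_inv h1 h3 hy2 (hR.trans h2.symm)
  rw [H.hc]
  intro hV
  have h4 := th_le H.char H.mult h1 0 (n := 3 ^ 4) (by rw [Rm (by norm_num) h2]; exact card_fix Dat.tab.good fix12)
  rw [th_three, hV, (H.six h1 h3 hV (by decide)).2.1, (H.six h1 h3 hV (by decide)).2.1] at h4
  norm_num at h4

omit [Finite D] in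
theorem invT {Q : ℤ → Prop} {i j c : ℕ} (hc : c < 33) (h : ∀ y, y ^ 2 = 1 → m.R y = gl T i → Q (V y))
    (e : eqW T 33 1 [i, c] [c, j] = true) (y : D) (hy2 : y ^ 2 = 1) (hR : m.R y = gl T j) : Q (V y) := by
  obtain ⟨l, -, hl⟩ := lift (m := m) hc
  rw [← H.hc y l⁻¹]
  refine h _ (by rw [conj_pow', hy2, mul_one, inv_mul_cancel]) ?_
  rw [map_mul, map_mul, map_inv, map_inv, _root_.inv_inv, hl, hR, ← Dat.tab.mul e, mul_inv_cancel_right]

/-- an element commuting with an involution of class 2B -/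
theorem ev_of {k : D} (hk : m.K k) {a i j v : ℕ} (hi : i < 33) (hj : j < 33) (hR : m.R k = gl T a)
    (h : (eqW T 33 1 [12, j] [j, i] && eqW T 33 1 (List.replicate 2 i) [] && eqW T 33 1 [a, i] [i, a] &&
      fxB (T i) v && !fxB (T i) 1) = true) (c : ZMod 3) : E (m.el k (toV v) c) := by
  simp only [Bool.and_eq_true, Bool.not_eq_true'] at h
  obtain ⟨⟨⟨⟨h1, h2⟩, h3⟩, h4⟩, h5⟩ := h
  obtain ⟨y, hy, hRy, hy2⟩ := exists_lift (m := m) (Dat.tab.mem hi) (n := 2) (by decide) (Dat.tab.pow_one h2)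
  refine H.E_two y _ hy2 (ne_one hi hRy h5) (H.invT (Q := fun n => n ≠ 4372) hj H.inv4 h1 y hy2 hRy) ?_
  exact comm_el hy (comm_of_inv hk hy hy2 (by rw [hR, hRy, Dat.tab.mul h3]))
    (by rw [Rm hi hRy]; exact fxB_spec (Dat.tab.good i) h4) c

omit [Finite D] in
theorem inv8 (y : D) (hy2 : y ^ 2 = 1) (hR : m.R y = gl T 11) : V y = 4372 := by
  obtain ⟨y₀, h1, h2, h3⟩ := exists_lift (m := m) (Dat.tab.mem (i := 11) (by norm_num)) (n := 2) (by decide)
    (Dat.tab.pow_one (by decide +kernel))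
  obtain ⟨h, rfl⟩ := conj_inv h1 h3 hy2 (hR.trans h2.symm)
  obtain ⟨k, hk, hRk⟩ := lift (m := m) (i := 7) (by norm_num)
  have h4 := pow_X hk (n := 6) (v := v54) (r := 1) (by norm_num) hRk (by decide +kernel) (by decide +kernel) 0
  set g := m.el k (toV v54) 0 with hg
  have h5 : m.R (g ^ 27) = gl T 11 := R_pow ((R_el _ _ _).trans hRk) (by decide +kernel)
  have h6 : g ^ 27 ≠ 1 := ne_one (by norm_num) h5 (by decide +kernel)
  have h7 : orderOf g = 3 * 18 := ord_X (by norm_num) h4 fun _ => h6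
  have h8 : (g ^ 27) ^ 2 = 1 := by rw [← pow_mul, ← pow_orderOf_eq_one g, h7]
  obtain ⟨h', h9⟩ := conj_inv h1 h3 h8 (h5.trans h2.symm)
  rw [H.hc, ← H.hc y₀ h', h9]
  by_contra h10
  exact H.c54 g (H.E_two _ g h8 h6 h10 ((Commute.refl g).pow_right 27)) h7

omit [Finite D] in
theorem inv17 (y : D) (hy2 : y ^ 2 = 1) (hR : m.R y = gl T 17) : V y = 4372 :=
  H.invT (Q := fun n => n = 4372) (c := 20) (by norm_num) H.inv8 (by decide +kernel) y hy2 hR

omit [Finite D] in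
theorem inv19 (y : D) (hy2 : y ^ 2 = 1) (hR : m.R y = gl T 19) : V y = 4372 :=
  H.invT (Q := fun n => n = 4372) (c := 21) (by norm_num) H.inv8 (by decide +kernel) y hy2 hR

omit [Finite D] in
theorem th_mv {k : D} (hk : m.K k) {a v w : ℕ} (ha : a < 33) (hR : m.R k = gl T a) (h : mvB (T a) v w = true)
    (c : ZMod 3) : m.th V k (toV v) = 3 * V (m.el k (toV v) c) := by
  obtain ⟨h1, h2⟩ := mvB_spec (Dat.tab.good a) h
  exact th_eq H.hc hk (by rw [Rm ha hR, h1]) h2 c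

/-- the value on 9B -/
theorem val9 {v w : ℕ} (h : mvB (T 10) v w = true) (hs : ssN l10 v = -18) :
    m.All (fun g => V g = 0) (gl T 10) (toV v) := by
  have hp : Fact (Nat.Prime 3) := ⟨Nat.prime_three⟩
  intro k hk hR c
  have h1 : gl T 10 ^ (3 * 1) = 1 := Dat.tab.pow_one (by decide +kernel)
  have h2 : ∀ l, m.K l → m.R l = gl T 10 → V l = 0 ∨ V l = 54 ∨ V l = 783 := fun l hl hRl =>
    H.c3 l (H.E_z l hl) (orderOf_eq_prime (pow_eq_one hl (n := 1) (by rw [hRl, h1]))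
      (ne_one (by norm_num) hRl (by decide +kernel)))
  have h3 := h2 k hk hR
  have h4 := h2 _ (hk.mul_X 1) (by rw [map_mul, m.R_X, mul_one, hR])
  have h5 := h2 _ (hk.mul_X 2) (by rw [map_mul, m.R_X, mul_one, hR])
  have h6 := th_odd H.char H.mult hk (n := 3 * 1) (by decide) (pow_eq_one hk (by rw [hR, h1]))
  rw [Rm (by norm_num) hR] at h6
  have h7 := h6 (toV v) (toV v9b)
  have h8 := h6 (toV 0) (toV v9b)
  rw [ss10, ss10, show ssN l10 v9b = -18 by decide +kernel, H.th_mv hk (v := v9b) (w := w9b) (by norm_num) hR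
    (by decide +kernel) 0] at h7 h8
  rw [hs, H.th_mv hk (by norm_num) hR h c] at h7
  rw [show ssN l10 0 = 576 by decide +kernel, toV_zero, th_three] at h8
  have h9 := H.c9 _ (H.ev_of hk (i := 22) (j := 23) (v := v9b) (by norm_num) (by norm_num) hR (by decide +kernel) 0)
    (ord_X (e := 3) (by norm_num) (pow_X hk (n := 1) (r := 1) (by norm_num) hR (by decide +kernel)
      (by decide +kernel) 0) (by norm_num))
  show V _ = 0
  omega

theorem pin27 {k : D} (hk : m.K k) (hR : m.R k = gl T 8) :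
    m.th V k 0 = 27 ∧ ∀ v, 2 * m.th V k (toV v) - 3 * ssN l8 v = 18 := by
  have h1 : gl T 8 ^ (3 * 3) = 1 := Dat.tab.pow_one (by decide +kernel)
  have h2 : ∀ g, E g → g ^ 9 = 1 → m.R g = gl T 8 → V g = 0 ∨ V g = 27 := fun g hg h9 hRg =>
    H.c9 g hg (ord_of (by norm_num) h9 (by norm_num) fun _ =>
      ne_one (i := 10) (by norm_num) (R_pow hRg (by decide +kernel)) (by decide +kernel))
  have h2' : ∀ l, m.K l → m.R l = gl T 8 → V l = 0 ∨ V l = 27 := fun l hl hRl =>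
    h2 l (H.E_z l hl) (pow_eq_one hl (n := 3) (by rw [hRl, h1])) hRl
  have h3 := h2' k hk hR
  have h4 := h2' _ (hk.mul_X 1) (by rw [map_mul, m.R_X, mul_one, hR])
  have h5 := h2' _ (hk.mul_X 2) (by rw [map_mul, m.R_X, mul_one, hR])
  have h6 := th_odd H.char H.mult hk (n := 3 * 3) (by decide) (pow_eq_one hk (by rw [hR, h1]))
  rw [Rm (by norm_num) hR] at h6
  have h8 := h6 (toV 0) (toV vp)
  rw [ss8, ss8, show ssN l8 vp = -6 by decide +kernel, H.th_mv hk (v := vp) (w := wp) (by norm_num) hR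
    (by decide +kernel) 0,
    show ssN l8 0 = 12 by decide +kernel, toV_zero] at h8
  have h9 := h2 _ (H.ev_of hk (i := 12) (j := 26) (v := vp) (by norm_num) (by norm_num) hR (by decide +kernel) 0)
    ((pow_X hk (n := 3) (r := 0) (by norm_num) hR (by decide +kernel) (by decide +kernel) 0).trans m.X_zero)
    ((R_el _ _ _).trans hR)
  have h10 : m.th V k 0 = 27 := by
    rw [th_three] at h8 ⊢
    omega
  refine ⟨h10, fun v => ?_⟩
  have h11 := h6 (toV v) (toV 0)
  rw [ss8, ss8, show ssN l8 0 = 12 by decide +kernel, toV_zero, h10] at h11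
  rw [h11]
  norm_num

/-- the value on 27A, 27B -/
theorem val27 {v w : ℕ} (h : mvB (T 8) v w = true) (hs : ssN l8 v = 0) :
    m.All (fun g => V g = 3) (gl T 8) (toV v) := by
  intro k hk hR c
  have h1 := (H.pin27 hk hR).2 v
  rw [hs, H.th_mv hk (by norm_num) hR h c] at h1
  show V _ = 3
  omega

theorem gd9b {p : ℕ × ℕ} (hp : p ∈ L9) : m.All (Gd m V 3 [(1, 0), (3, 54)]) (gl T 10) (toV p.1) := by
  have h := List.all_eq_true.1 chk9 p hp
  simp only [Bool.and_eq_true, decide_eq_true_eq] at h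
  intro k hk hR c
  have h1 := pow_X hk (n := 1) (by norm_num) hR (by decide +kernel) h.1.1 c
  have h2 := H.val9 h.1.2 h.2 k hk hR c
  refine ⟨⟨ord_X (by norm_num) h1 (by norm_num), ?_⟩, h1⟩
  simp only [List.forall_mem_cons, List.not_mem_nil, false_imp_iff, implies_true, and_true, pow_one]
  exact ⟨h2, by rw [show (3 : ℕ) = 3 * 1 from rfl, h1]; exact H.x⟩

theorem gd27 {p : ℕ × ℕ × ℕ × ℕ} (hp : p ∈ L27) :
    m.All (Gd m V 9 [(1, 3), (3, 0), (9, 54)]) (gl T 8) (toV p.1) := by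
  have h := List.all_eq_true.1 chk27 p hp
  simp only [Bool.and_eq_true, decide_eq_true_eq] at h
  obtain ⟨⟨⟨⟨⟨a1, a2⟩, a3⟩, a4⟩, a5⟩, a6⟩ := h
  intro k hk hR c
  have h1 := pow_X hk (n := 3) (by norm_num) hR (by decide +kernel) a1 c
  obtain ⟨d, hd⟩ := pow_el hk (by norm_num) hR a4 c
  refine ⟨⟨ord_X (by norm_num) h1 (by norm_num), ?_⟩, h1⟩
  simp only [List.forall_mem_cons, List.not_mem_nil, false_imp_iff, implies_true, and_true, pow_one]
  refine ⟨H.val27 a2 a3 k hk hR c, ?_, by rw [show (9 : ℕ) = 3 * 3 from rfl, h1]; exact H.x⟩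
  rw [hd]
  exact H.val9 a5 a6 _ (hk.pow 3) (R_pow hR (by decide +kernel)) d

theorem gd18a : m.All (Gd m V 6 [(1, -2), (2, 0), (3, -2), (6, 54), (9, 4372)]) (gl T 9) (toV v18) := by
  intro k hk hR c
  have h1 := pow_X hk (n := 2) (v := v18) (r := 1) (by norm_num) hR (by decide +kernel) (by decide +kernel) c
  obtain ⟨d, hd⟩ := pow_el hk (n := 2) (v := v18) (s := v9b) (by norm_num) hR (by decide +kernel) c
  have h2 := H.val9 (v := v9b) (w := w9b) (by decide +kernel) (by decide +kernel) _ (hk.pow 2)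
    (R_pow hR (by decide +kernel)) d
  have h3 := H.ev_of hk (i := 22) (j := 23) (v := v18) (by norm_num) (by norm_num) hR (by decide +kernel) c
  rw [← hd] at h2
  set g := m.el k (toV v18) c with hg
  have h5 : m.R (g ^ 9) = gl T 11 := R_pow ((R_el _ _ _).trans hR) (by decide +kernel)
  have h7 : orderOf g = 3 * 6 := ord_X (by norm_num) h1 fun _ => ne_one (by norm_num) h5 (by decide +kernel)
  have h8 := H.inv8 _ (by rw [← pow_mul, ← pow_orderOf_eq_one g, h7]) h5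
  have h9 := H.c18 g h3 h7 h8
  refine ⟨⟨h7, ?_⟩, h1⟩
  simp only [List.forall_mem_cons, List.not_mem_nil, false_imp_iff, implies_true, and_true, pow_one]
  have h10 : V (g ^ 2) = 0 := h2
  exact ⟨by omega, h10, h9.1, by rw [show (6 : ℕ) = 3 * 2 from rfl, h1]; exact H.x, h8⟩

theorem gd54 :
    m.All (Gd m V 18 [(1, 1), (2, 3), (3, -2), (6, 0), (9, -2), (18, 54), (27, 4372)]) (gl T 7) (toV v54) := by
  intro k hk hR c
  have h1 := pow_X hk (n := 6) (v := v54) (r := 1) (by norm_num) hR (by decide +kernel) (by decide +kernel) c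
  obtain ⟨d, hd⟩ := pow_el hk (n := 2) (v := v54) (s := v27) (by norm_num) hR (by decide +kernel) c
  obtain ⟨d', hd'⟩ := pow_el hk (n := 3) (v := v54) (s := v18) (by norm_num) hR (by decide +kernel) c
  have hR2 : m.R (k ^ 2) = gl T 8 := R_pow hR (by decide +kernel)
  have h2 := H.val27 (v := v27) (w := w54) (by decide +kernel) (by decide +kernel) _ (hk.pow 2) hR2 d
  have h3 := (H.gd18a _ (hk.pow 3) (R_pow hR (by decide +kernel)) d').1.2
  have h4 := H.th_mv hk (v := v54) (w := w54) (by norm_num) hR (by decide +kernel) c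
  rw [← hd] at h2
  rw [← hd'] at h3
  simp only [List.forall_mem_cons, List.not_mem_nil, false_imp_iff, implies_true, and_true, ← pow_mul] at h3
  have h5 : ∀ l, m.K l → m.R l = gl T 7 → 3 * V l + 6 = V (l ^ 2) := fun l hl hRl => by
    have a1 : l ^ (3 * 6) = 1 := pow_eq_one hl (by rw [hRl]; exact Dat.tab.pow_one (by decide +kernel))
    have a2 : m.R (l ^ 9) = gl T 11 := R_pow hRl (by decide +kernel)
    have a3 := H.c18 l (H.E_z l hl) (ord_of (by norm_num) a1 (fun _ => ne_one (by norm_num) a2 (by decide +kernel))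
      fun _ => ne_one (i := 10) (by norm_num) (R_pow hRl (by decide +kernel)) (by decide +kernel))
      (H.inv8 _ (by rw [← pow_mul]; exact a1) a2)
    omega
  have h6 := h5 k hk hR
  have h7 := h5 _ (hk.mul_X 1) (by rw [map_mul, m.R_X, mul_one, hR])
  have h8 := h5 _ (hk.mul_X 2) (by rw [map_mul, m.R_X, mul_one, hR])
  rw [(m.X_comm _ k).mul_pow, m.X_pow] at h7 h8
  rw [show ((2 : ℕ) : ZMod 3) * 1 = 2 by decide] at h7
  rw [show ((2 : ℕ) : ZMod 3) * 2 = 1 by decide] at h8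
  have h9 := (H.pin27 (hk.pow 2) hR2).1
  rw [th_const H.char H.mult hk (by rw [Rm (by norm_num) hR, shF7]), th_three] at h4
  rw [th_three] at h9
  set g := m.el k (toV v54) c with hg
  have h10 : orderOf g = 3 * 18 := ord_X (by norm_num) h1 fun _ =>
    ne_one (i := 11) (by norm_num) (R_pow ((R_el _ _ _).trans hR) (by decide +kernel)) (by decide +kernel)
  refine ⟨⟨h10, ?_⟩, h1⟩
  simp only [List.forall_mem_cons, List.not_mem_nil, false_imp_iff, implies_true, and_true, pow_one]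
  exact ⟨by omega, h2, h3⟩

theorem gd36 : m.All (Gd m V 12 [(1, 1), (2, 7), (3, -2), (4, 27), (6, -2), (9, 52), (12, 54), (18, 4372)])
    (gl T 13) (toV v36) := by
  intro k hk hR c
  have h1 := pow_X hk (n := 4) (v := v36) (r := 1) (by norm_num) hR (by decide +kernel) (by decide +kernel) c
  have h3 := H.ev_of hk (i := 24) (j := 25) (v := v36) (by norm_num) (by norm_num) hR (by decide +kernel) c
  set g := m.el k (toV v36) c with hg
  have h5 : m.R (g ^ 18) = gl T 17 := R_pow ((R_el _ _ _).trans hR) (by decide +kernel)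
  have h7 : orderOf g = 3 * 12 := ord_X (by norm_num) h1 fun _ => ne_one (by norm_num) h5 (by decide +kernel)
  have h8 := H.inv17 _ (by rw [← pow_mul, ← pow_orderOf_eq_one g, h7]) h5
  obtain ⟨a1, a2, a3, a4, a5, a6⟩ := H.c36 g h3 h7 h8
  refine ⟨⟨h7, ?_⟩, h1⟩
  simp only [List.forall_mem_cons, List.not_mem_nil, false_imp_iff, implies_true, and_true, pow_one]
  exact ⟨a1, a2, a3, a4, a5, a6, by rw [show (12 : ℕ) = 3 * 4 from rfl, h1]; exact H.x, h8⟩

theorem gd18b : m.All (Gd m V 6 [(1, 7), (2, 27), (3, -2), (6, 54), (9, 4372)]) (gl T 14) (toV v18b) := by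
  obtain ⟨k, hk, hR⟩ := lift (m := m) (i := 13) (by norm_num)
  obtain ⟨⟨h1, h2⟩, h3⟩ := H.gd36 k hk hR 0
  obtain ⟨d, hd⟩ := pow_el hk (n := 2) (v := v36) (s := v18b) (by norm_num) hR (by decide +kernel) 0
  have hR2 : m.R (k ^ 2) = gl T 14 := R_pow hR (by decide +kernel)
  obtain ⟨h4, h5⟩ := mvB_spec (Dat.tab.good 14) (v := v18b) (w := w18b) (by decide +kernel)
  rw [← hR2]
  refine All.of_one (H.gd_conj _ _) (hk.pow 2) (by rw [Rm (by norm_num) hR2, h4]) h5 (c := d) ?_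
  rw [← hd]
  simp only [List.forall_mem_cons, List.not_mem_nil, false_imp_iff, implies_true, and_true] at h2
  refine ⟨⟨by rw [orderOf_pow_of_dvd (by norm_num) (by rw [h1]; norm_num), h1], ?_⟩, by rw [← pow_mul]; exact h3⟩
  simp only [List.forall_mem_cons, List.not_mem_nil, false_imp_iff, implies_true, and_true, ← pow_mul]
  exact ⟨h2.2.1, h2.2.2.2.1, h2.2.2.2.2.1, h2.2.2.2.2.2.2⟩

theorem gd9a : m.All (Gd m V 3 [(1, 27), (3, 54)]) (gl T 16) (toV v9a) := by
  obtain ⟨k, hk, hR⟩ := lift (m := m) (i := 13) (by norm_num)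
  obtain ⟨⟨h1, h2⟩, h3⟩ := H.gd36 k hk hR 0
  obtain ⟨d, hd⟩ := pow_el hk (n := 4) (v := v36) (s := v9a) (by norm_num) hR (by decide +kernel) 0
  have hR2 : m.R (k ^ 4) = gl T 16 := R_pow hR (by decide +kernel)
  obtain ⟨h4, h5⟩ := mvB_spec (Dat.tab.good 16) (v := v9a) (w := w9a) (by decide +kernel)
  rw [← hR2]
  refine All.of_one (H.gd_conj _ _) (hk.pow 4) (by rw [Rm (by norm_num) hR2, h4]) h5 (c := d) ?_
  rw [← hd]
  simp only [List.forall_mem_cons, List.not_mem_nil, false_imp_iff, implies_true, and_true] at h2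
  refine ⟨⟨by rw [orderOf_pow_of_dvd (by norm_num) (by rw [h1]; norm_num), h1], ?_⟩, by rw [← pow_mul]; exact h3⟩
  simp only [List.forall_mem_cons, List.not_mem_nil, false_imp_iff, implies_true, and_true, ← pow_mul]
  exact ⟨h2.2.2.2.1, h2.2.2.2.2.2.2.1⟩

theorem gd6 : ∃ k, m.K k ∧ m.R k = gl T 11 ∧ Gd m V 2 [(1, -2), (2, 54), (3, 4372)] k := by
  obtain ⟨y, h1, h2, h3⟩ := exists_lift (m := m) (Dat.tab.mem (i := 11) (by norm_num)) (n := 2) (by decide)
    (Dat.tab.pow_one (by decide +kernel))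
  have h4 := H.inv8 y h3 h2
  obtain ⟨h5, h6, h7⟩ := H.six h1 h3 h4 (c := 2) (by decide)
  have h8 : (y * m.X 2) ^ 2 = m.X 1 := by
    rw [(m.X_comm _ y).mul_pow, h3, one_mul, m.X_pow]
    exact congrArg m.X (by decide)
  refine ⟨y * m.X 2, h1.mul_X 2, by rw [map_mul, m.R_X, mul_one, h2], ⟨h5, ?_⟩, h8⟩
  simp only [List.forall_mem_cons, List.not_mem_nil, false_imp_iff, implies_true, and_true, pow_one]
  exact ⟨h6, by rw [h8, H.x], by rw [h7, h4]⟩

omit [Finite D] in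
theorem gd12 : ∃ k, m.K k ∧ m.R k = gl T 15 ∧ Gd m V 4 [(1, -2), (2, -2), (3, 52), (4, 54), (6, 4372)] k := by
  obtain ⟨y, h1, h2, h3⟩ := exists_lift (m := m) (Dat.tab.mem (i := 15) (by norm_num)) (n := 4) (by decide)
    (Dat.tab.pow_one (by decide +kernel))
  have h4 : (y * m.X 1) ^ 4 = m.X 1 := by
    rw [(m.X_comm _ y).mul_pow, h3, one_mul, m.X_pow]
    exact congrArg m.X (by decide)
  have hR : m.R (y * m.X 1) = gl T 15 := by rw [map_mul, m.R_X, mul_one, h2]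
  have hk := h1.mul_X 1
  set g := y * m.X 1 with hg
  have h5 : m.R (g ^ 6) = gl T 17 := R_pow hR (by decide +kernel)
  have h7 : orderOf g = 3 * 4 := ord_X (by norm_num) h4 fun _ => ne_one (by norm_num) h5 (by decide +kernel)
  have h8 := H.inv17 _ (by rw [← pow_mul, ← pow_orderOf_eq_one g, h7]) h5
  have h9 : V (g ^ 4) = 54 := by rw [h4, H.x]
  obtain ⟨a1, a2, a3⟩ := H.c12 g (H.E_z g hk) h7 h9 h8
  refine ⟨g, hk, hR, ⟨h7, ?_⟩, h4⟩
  simp only [List.forall_mem_cons, List.not_mem_nil, false_imp_iff, implies_true, and_true, pow_one]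
  exact ⟨a1, a2, a3, h9, h8⟩

omit [Finite D] in
theorem gd24 : ∃ k, m.K k ∧ m.R k = gl T 18 ∧
    Gd m V 8 [(1, 0), (2, -2), (3, 0), (4, -2), (6, 52), (8, 54), (12, 4372)] k := by
  obtain ⟨y, h1, h2, h3⟩ := exists_lift (m := m) (Dat.tab.mem (i := 18) (by norm_num)) (n := 8) (by decide)
    (Dat.tab.pow_one (by decide +kernel))
  have h4 : (y * m.X 2) ^ 8 = m.X 1 := by
    rw [(m.X_comm _ y).mul_pow, h3, one_mul, m.X_pow]
    exact congrArg m.X (by decide)
  have hR : m.R (y * m.X 2) = gl T 18 := by rw [map_mul, m.R_X, mul_one, h2]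
  have hk := h1.mul_X 2
  set g := y * m.X 2 with hg
  have h5 : m.R (g ^ 12) = gl T 19 := R_pow hR (by decide +kernel)
  have h7 : orderOf g = 3 * 8 := ord_X (by norm_num) h4 fun _ => ne_one (by norm_num) h5 (by decide +kernel)
  have h8 := H.inv19 _ (by rw [← pow_mul, ← pow_orderOf_eq_one g, h7]) h5
  obtain ⟨a1, a2, a3, a4, a5⟩ := H.c24 g (H.E_z g hk) h7 h8
  refine ⟨g, hk, hR, ⟨h7, ?_⟩, h4⟩
  simp only [List.forall_mem_cons, List.not_mem_nil, false_imp_iff, implies_true, and_true, pow_one]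
  exact ⟨a1, a2, a3, a4, a5, by rw [h4, H.x], h8⟩

/-! ### The numbers -/

omit [Finite D] in
theorem all_words {e : ℕ} {l : List (ℕ × ℤ)} {a v : ℕ} (h : m.All (Gd m V e l) (gl T a) (toV v)) (gs : List ℕ)
    {ws : List (List ℕ)} (hg : (gs.all fun i => eqW T 33 1 [a, i] [i, a]) = true)
    (hw : (ws.all fun w => w.all fun i => decide (i ∈ gs)) = true) :
    ∀ u ∈ ws.map fun w => ev T w v, m.All (Gd m V e l) (gl T a) (toV u) := by
  intro u hu
  obtain ⟨w, hw', rfl⟩ := List.mem_map.1 hu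
  exact All.word (H.gd_conj _ _) Dat.tab hg w v
    (fun i hi => of_decide_eq_true (List.all_eq_true.1 (List.all_eq_true.1 hw w hw') i hi)) h

omit H in
theorem many {P : D → Prop} (hP : ∀ g h, P g → P (h⁻¹ * g * h)) {a b f φ c : ℕ} (ha : a < 33)
    (hc : CW (gl T a) ≤ c) (hf : f ≤ 12) (hF : fixB T a b f = true) (hφ : eqB T 1 [a, φ] [φ] = true) (L : List ℕ)
    (hL : ∀ v ∈ L, m.All P (gl T a) (toV v)) (hn : (L.map fun v => nrm (step (T φ) v 0)).Nodup) (n e : ℕ)
    (h1 : L.length = n) (h2 : 12 - f = e) : 896690995200 / c * (n * 3 ^ e * 3) ≤ Nat.card {g : D // P g} := by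
  subst h1 h2
  exact count_many hP Dat.tab ha hc hf hF hφ hL hn

theorem n9a : 896690995200 / 19595520 * (252 * 3 ^ 6 * 3) ≤ Nat.card {g : D // Gd m V 3 [(1, 27), (3, 54)] g} :=
  many (H.gd_conj _ _) (by norm_num) cw9a (by norm_num) fix16 phi16 _
    (H.all_words H.gd9a [27, 28, 29] (ws := O9) (by decide +kernel) (by decide +kernel)) nd9a 252 6
    (by rw [List.length_map]; decide +kernel) rfl

theorem n9b : 896690995200 / 69984 * (18 * 3 ^ 6 * 3) ≤ Nat.card {g : D // Gd m V 3 [(1, 0), (3, 54)] g} :=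
  many (H.gd_conj _ _) (by norm_num) cw9b (by norm_num) fix10 phi10 (L9.map Prod.fst) (fun v hv => by
    obtain ⟨p, hp, rfl⟩ := List.mem_map.1 hv
    exact H.gd9b hp) nd9 18 6 (by rw [List.length_map]; decide +kernel) rfl

theorem n27 : 896690995200 / 108 * (6 * 3 ^ 10 * 3) ≤ Nat.card {g : D // Gd m V 9 [(1, 3), (3, 0), (9, 54)] g} :=
  many (H.gd_conj _ _) (by norm_num) cw27 (by norm_num) fix8 phi8 (L27.map Prod.fst) (fun v hv => by
    obtain ⟨p, hp, rfl⟩ := List.mem_map.1 hv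
    exact H.gd27 hp) nd27 6 10 (by rw [List.length_map]; decide +kernel) rfl

theorem n18a : 896690995200 / 2592 * (2 * 3 ^ 9 * 3) ≤
    Nat.card {g : D // Gd m V 6 [(1, -2), (2, 0), (3, -2), (6, 54), (9, 4372)] g} :=
  many (H.gd_conj _ _) (by norm_num) cw18a (by norm_num) fix9 phi9 _
    (H.all_words H.gd18a [26] (ws := [[], [26]]) (by decide +kernel) (by decide +kernel)) nd18a 2 9
    (by rw [List.length_map]; rfl) rfl

theorem n18b : 896690995200 / 6912 * (24 * 3 ^ 8 * 3) ≤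
    Nat.card {g : D // Gd m V 6 [(1, 7), (2, 27), (3, -2), (6, 54), (9, 4372)] g} :=
  many (H.gd_conj _ _) (by norm_num) cw18b (by norm_num) fix14 phi14 _
    (H.all_words H.gd18b [30, 31] (ws := O18) (by decide +kernel) (by decide +kernel)) nd18b 24 8
    (by rw [List.length_map]; decide +kernel) rfl

theorem n36 : 896690995200 / 48 * (2 * 3 ^ 10 * 3) ≤
    Nat.card {g : D // Gd m V 12 [(1, 1), (2, 7), (3, -2), (4, 27), (6, -2), (9, 52), (12, 54), (18, 4372)] g} :=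
  many (H.gd_conj _ _) (by norm_num) cw36 (by norm_num) fix13 phi13 _
    (H.all_words H.gd36 [26] (ws := [[], [26]]) (by decide +kernel) (by decide +kernel)) nd36 2 10
    (by rw [List.length_map]; rfl) rfl

theorem n54 : 896690995200 / 36 * (2 * 3 ^ 11 * 3) ≤
    Nat.card {g : D // Gd m V 18 [(1, 1), (2, 3), (3, -2), (6, 0), (9, -2), (18, 54), (27, 4372)] g} :=
  many (H.gd_conj _ _) (by norm_num) cw54 (by norm_num) fix7 phi7 _
    (H.all_words H.gd54 [26] (ws := [[], [26]]) (by decide +kernel) (by decide +kernel)) nd54 2 11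
    (by rw [List.length_map]; rfl) rfl

theorem n6 : 896690995200 / 6635520 * 3 ^ 4 ≤ Nat.card {g : D // Gd m V 2 [(1, -2), (2, 54), (3, 4372)] g} := by
  obtain ⟨k, hk, hR, h⟩ := H.gd6
  exact count_one (H.gd_conj _ _) Dat.tab (by norm_num) cw6 (by norm_num) fix11 hk hR h

theorem n12 : 896690995200 / 1536 * 3 ^ 8 ≤
    Nat.card {g : D // Gd m V 4 [(1, -2), (2, -2), (3, 52), (4, 54), (6, 4372)] g} := by
  obtain ⟨k, hk, hR, h⟩ := H.gd12
  exact count_one (H.gd_conj _ _) Dat.tab (by norm_num) cw12 (by norm_num) fix15 hk hR h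

theorem n24 : 896690995200 / 32 * 3 ^ 10 ≤
    Nat.card {g : D // Gd m V 8 [(1, 0), (2, -2), (3, 0), (4, -2), (6, 52), (8, 54), (12, 4372)] g} := by
  obtain ⟨k, hk, hR, h⟩ := H.gd24
  exact count_one (H.gd_conj _ _) Dat.tab (by norm_num) cw24 (by norm_num) fix18 hk hR h

/-- an element of order 5 commuting with an element of type 9A -/
theorem five : ∃ u y : D, m.K u ∧ orderOf u = 5 ∧ m.R u = gl T 32 ∧ y * u = u * y ∧ Gd m V 3 [(1, 27), (3, 54)] y := by
  have hp : Fact (Nat.Prime 5) := ⟨by norm_num⟩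
  obtain ⟨u, h1, h2, h3⟩ := exists_lift (m := m) (Dat.tab.mem (i := 32) (by norm_num)) (n := 5) (by decide)
    (Dat.tab.pow_one (by decide +kernel))
  obtain ⟨k, hk, hR⟩ := lift (m := m) (i := 16) (by norm_num)
  have h4 := (H.all_words H.gd9a [27, 28, 29] (ws := [w45]) (by decide +kernel) (by decide +kernel) _
    List.mem_cons_self).shift (H.gd_conj _ _) (toV sh45)
  have h5 : toV (ev T w45 v9a) + (toV sh45 - toV sh45 ᵥ* (gl T 16 : M12)) = toV v45 := by
    rw [Dat.tab.coe (by norm_num), ← toV_step (Dat.tab.good 16), ← add_sub_assoc, sub_eq_iff_eq_add, ← toV_addN,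
      ← toV_addN]
    exact toV_of_nrm (by decide +kernel)
  rw [h5] at h4
  refine ⟨u, m.el k (toV v45) 0, h1, orderOf_eq_prime h3 (ne_one (by norm_num) h2 (by decide +kernel)), h2, ?_,
    h4 k hk hR 0⟩
  exact comm_el h1 (comm_of_cop hk h1 (n := 5) (by decide) h3 (by
    rw [hR, h2]
    exact Dat.tab.mul (by decide +kernel))) (by
    rw [Rm (by norm_num) h2]
    exact fxB_spec (Dat.tab.good 32) (by decide +kernel)) 0

end Env

end Cfsg.Agent.TAB.C3B
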