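import Cfsg.Agent.TAB.C3B.Basic
import Cfsg.Agent.CharactersDeep.CosetAverage
import Cfsg.Agent.Characters.SchurBound
import Cfsg.Agent.Characters.Brauer
import Cfsg.Agent.Characters.Linear

/-!
# TAB / C(3B): the weight spaces of `N / Z(N)` and the trace formula (helper15)
-/

set_option autoImplicit false

namespace Cfsg.Agent.TAB.C3B

open Matrix Cfsg Cfsg.Agent.H920.Sz12 Cfsg.Agent.Characters.Core ComplexConjugate

/-- the additive character -/
noncomputable def ee (a : ZMod 3) : ℂ := ZMod.stdAddChar a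

theorem ee_add (a b : ZMod 3) : ee (a + b) = ee a * ee b := AddChar.map_add_eq_mul _ a b

theorem ee_zero : ee 0 = 1 := AddChar.map_zero_eq_one _

theorem ee_ne {a : ZMod 3} (h : a ≠ 0) : ee a ≠ 1 := fun h1 =>
  h (ZMod.injective_stdAddChar (h1.trans ee_zero.symm))

theorem norm_ee (a : ZMod 3) : ‖ee a‖ = 1 := by
  unfold ee
  rw [ZMod.stdAddChar_apply]
  exact Circle.norm_coe _

theorem conj_ee (a : ZMod 3) : conj (ee a) = ee (-a) := by
  have h1 : ee a * ee (-a) = 1 := by rw [← ee_add, add_neg_cancel, ee_zero]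
  rw [← Complex.inv_eq_conj (norm_ee a), inv_eq_of_mul_eq_one_right h1]

/-- twice the real part -/
def rr (a : ZMod 3) : ℤ := if a = 0 then 2 else -1

theorem ee_add_neg (a : ZMod 3) : ee a + ee (-a) = rr a := by
  unfold rr
  split_ifs with h
  · rw [h, neg_zero, ee_zero]; norm_num
  · have h1 : ee a * (1 + ee a + ee (-a)) = 1 + ee a + ee (-a) := by
      have h2 : ∀ a : ZMod 3, a + a = -a := by decide
      rw [mul_add, mul_add, mul_one, ← ee_add, ← ee_add, add_neg_cancel, ee_zero, h2]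
      ring
    have h2 : (ee a - 1) * (1 + ee a + ee (-a)) = 0 := by rw [sub_mul, h1, one_mul, sub_self]
    have h3 := (mul_eq_zero.1 h2).resolve_left (sub_ne_zero.2 (ee_ne h))
    push_cast
    linear_combination h3

theorem sum_ee (y : V12) : ∑ u : V12, ee (fm u y) = if y = 0 then 3 ^ 12 else 0 := by
  split_ifs with h
  · simp only [h, fm_zero_right, ee_zero, Finset.sum_const, Finset.card_univ, nsmul_eq_mul, mul_one]
    rw [← Nat.card_eq_fintype_card, card_rows]
    norm_num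
  · obtain ⟨w, hw⟩ : ∃ w, fm y w ≠ 0 := by
      by_contra h1
      push Not at h1
      exact h (eq_zero_of_fm h1)
    have h1 : ∑ u : V12, ee (fm u y) = ee (fm w y) * ∑ u : V12, ee (fm u y) := by
      rw [Finset.mul_sum, ← Equiv.sum_comp (Equiv.addLeft w)]
      refine Finset.sum_congr rfl fun u _ => ?_
      rw [Equiv.coe_addLeft, fm_add_left, ee_add]
    have h2 : ee (fm w y) ≠ 1 := ee_ne (by rw [fm_swap]; exact neg_ne_zero.2 hw)
    have h3 : (ee (fm w y) - 1) * ∑ u : V12, ee (fm u y) = 0 := by rw [sub_mul, ← h1, one_mul, sub_self]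
    exact (mul_eq_zero.1 h3).resolve_left (sub_ne_zero.2 h2)

/-- the action of an invertible matrix -/
def act (A : GL12) : V12 ≃ V12 :=
  ⟨fun v => v ᵥ* (A : M12), fun v => v ᵥ* ((A⁻¹ : GL12) : M12), vecMul_cancel_inv A, vecMul_inv_cancel A⟩

theorem Sh.act {u : V12} (h : Sh u) {A : GL12} (hA : A ∈ W) : Sh (u ᵥ* (A : M12)) := by
  obtain ⟨B, hB, rfl⟩ := h
  exact ⟨B * A, W.mul_mem hB hA, by rw [vecMul_vecMul, Units.val_mul]⟩

theorem Sh.neg {u : V12} (h : Sh u) : Sh (-u) := by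
  have h1 := h.act neg_one_mem_W
  rwa [Units.val_neg, Units.val_one, vecMul_neg, vecMul_one] at h1

theorem s0_ne : s0 ≠ 0 := by
  intro h
  have h1 := congrFun h (Sum.inl 0)
  revert h1
  decide +kernel

theorem Sh.ne {u : V12} (h : Sh u) : u ≠ 0 := by
  obtain ⟨B, -, rfl⟩ := h
  intro h1
  apply s0_ne
  rw [← vecMul_cancel_inv B s0, h1, zero_vecMul]

open Classical in
/-- the short rows fixed by `A` -/
noncomputable def shF (A : M12) : Finset V12 := Finset.univ.filter fun u => Sh u ∧ u ᵥ* A = u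

theorem mem_shF {A : M12} {u : V12} : u ∈ shF A ↔ Sh u ∧ u ᵥ* A = u := by
  classical
  unfold shF
  rw [Finset.mem_filter]
  exact and_iff_right (Finset.mem_univ u)

/-- twice the character sum over the short rows fixed by `A` -/
noncomputable def SS (A : M12) (v : V12) : ℤ := ∑ u ∈ shF A, rr (fm u v)

theorem SS_eq (A : M12) (v : V12) : (SS A v : ℂ) = 2 * ∑ u ∈ shF A, ee (fm u v) := by
  have h1 : ∑ u ∈ shF A, ee (-fm u v) = ∑ u ∈ shF A, ee (fm u v) := by
    refine Finset.sum_bij' (fun u _ => -u) (fun u _ => -u) ?_ ?_ (fun u _ => neg_neg u) (fun u _ => neg_neg u)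
      fun u _ => by rw [fm_neg_left]
    all_goals
      intro u hu
      obtain ⟨h1, h2⟩ := mem_shF.1 hu
      exact mem_shF.2 ⟨h1.neg, by rw [neg_vecMul, h2]⟩
  unfold SS
  push_cast
  simp only [← ee_add_neg]
  rw [Finset.sum_add_distrib, h1, two_mul]

namespace Mod

variable {D : Type*} [Group D] (m : Mod D)

/-- the vector part -/
noncomputable def vec (g : D) : V12 := (m.dec g).choose_spec.choose

theorem exists_vec (g : D) : ∃ k, m.K k ∧ g = m.el k (m.vec g) 0 := by
  obtain ⟨h1, h2⟩ := (m.dec g).choose_spec.choose_spec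
  exact ⟨_, h1, by rw [el, m.X_zero, mul_one]; exact h2⟩

variable {m}

theorem vec_el {k : D} (hk : m.K k) (v : V12) (c : ZMod 3) : m.vec (m.el k v c) = v := by
  obtain ⟨l, hl, h⟩ := m.exists_vec (m.el k v c)
  exact (vec_eq hk hl h).symm

theorem vec_mul (g h : D) : m.vec (g * h) = m.vec g ᵥ* (m.R h : M12) + m.vec h := by
  obtain ⟨k, hk, h1⟩ := m.exists_vec g
  obtain ⟨l, hl, h2⟩ := m.exists_vec h
  have h3 : m.R h = m.R l := by rw [h2, R_el]
  conv_lhs => rw [h1, h2, el_mul hl, vec_el (hk.mul hl), ← h3]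

variable (m)

/-- the stabilizer of a row -/
def St (u : V12) : Subgroup D where
  carrier := {g | u ᵥ* (m.R g : M12) = u}
  one_mem' := by
    show u ᵥ* (m.R 1 : M12) = u
    rw [map_one, Units.val_one, vecMul_one]
  mul_mem' := fun {a b} ha hb => by
    show u ᵥ* (m.R (a * b) : M12) = u
    rw [map_mul, Units.val_mul, ← vecMul_vecMul, show u ᵥ* (m.R a : M12) = u from ha]
    exact hb
  inv_mem' := fun {a} ha => by
    show u ᵥ* (m.R a⁻¹ : M12) = u
    conv_lhs => rw [← show u ᵥ* (m.R a : M12) = u from ha, map_inv, vecMul_cancel_inv]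

/-- the linear character of the stabilizer -/
noncomputable def lam (u : V12) : m.St u →* ℂ where
  toFun g := ee (-fm u (m.vec g))
  map_one' := by
    show ee (-fm u (m.vec 1)) = 1
    rw [← el_zero_zero (m := m) 1, vec_el m.K_one, fm_zero_right, neg_zero, ee_zero]
  map_mul' a b := by
    show ee (-fm u (m.vec ((a : D) * b))) = _
    have hb : u ᵥ* (m.R b : M12) = u := b.2
    have h1 := fm_W (m.R_mem b) u (m.vec a)
    rw [hb] at h1
    rw [vec_mul, fm_add_right, h1, neg_add, ee_add]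

variable (V : D → ℤ)

/-- the sum over a coset of the centre -/
def th (k : D) (v : V12) : ℤ := ∑ c : ZMod 3, V (m.el k v c)

/-- the trace on a weight space -/
noncomputable def cf (k : D) (u : V12) : ℂ := (3 ^ 13 : ℂ)⁻¹ * ∑ v : V12, (m.th V k v : ℂ) * ee (-fm u v)

theorem fourier (k : D) (w : V12) : 3 * ∑ u : V12, m.cf V k u * ee (fm u w) = m.th V k w := by
  have h1 : ∀ u : V12, m.cf V k u * ee (fm u w) =
      (3 ^ 13 : ℂ)⁻¹ * ∑ v : V12, (m.th V k v : ℂ) * ee (fm u (w - v)) := fun u => by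
    unfold cf
    rw [mul_assoc, Finset.sum_mul]
    congr 1
    refine Finset.sum_congr rfl fun v _ => ?_
    rw [mul_assoc, ← ee_add, fm_sub_right, neg_add_eq_sub]
  simp only [h1]
  rw [← Finset.mul_sum, Finset.sum_comm]
  simp only [← Finset.mul_sum, sum_ee, sub_eq_zero, mul_ite, mul_zero]
  rw [Finset.sum_ite_eq, if_pos (Finset.mem_univ _)]
  field_simp

theorem th_X (k : D) (a : ZMod 3) (v : V12) : m.th V (k * m.X a) v = m.th V k v := by
  unfold th
  rw [← Equiv.sum_comp (Equiv.addLeft a) fun c => V (m.el k v c)]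
  exact Finset.sum_congr rfl fun c _ => by rw [el_mul_X]; rfl

theorem cf_X (k : D) (a : ZMod 3) (u : V12) : m.cf V (k * m.X a) u = m.cf V k u := by
  unfold cf
  simp only [th_X]

theorem conj_cf (k : D) (u : V12) : conj (m.cf V k u) = m.cf V k (-u) := by
  unfold cf
  simp only [map_mul, map_inv₀, map_pow, map_sum, map_intCast, conj_ee, fm_neg_left, map_ofNat]

variable {m V}

section

variable (hc : ∀ g h, V (h⁻¹ * g * h) = V g)
include hc

theorem th_shift {k : D} (hk : m.K k) (v w : V12) : m.th V k (v + (w - w ᵥ* (m.R k : M12))) = m.th V k v := by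
  unfold th
  rw [← Equiv.sum_comp (Equiv.addRight (fm (v - w ᵥ* (m.R k : M12)) w - fm (w ᵥ* (m.R k : M12)) v))]
  exact Finset.sum_congr rfl fun c _ => by rw [Equiv.coe_addRight, ← conj_β hk, hc]

theorem th_conj {l : D} (hl : m.K l) (k : D) (v : V12) : m.th V (l⁻¹ * k * l) (v ᵥ* (m.R l : M12)) = m.th V k v := by
  unfold th
  exact Finset.sum_congr rfl fun c _ => by rw [← conj_K hl, hc]

theorem th_eq {k : D} (hk : m.K k) {v w : V12} (hw : w ᵥ* (m.R k : M12) = w) (hvw : fm v w ≠ 0) (c : ZMod 3) :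
    m.th V k v = 3 * V (m.el k v c) := by
  have h1 : ∀ d, V (m.el k v d) = V (m.el k v c) := fun d => by
    obtain ⟨h, hh⟩ := conj_X hk hw hvw c d
    rw [← hh, hc]
  unfold th
  simp only [h1, Finset.sum_const, Finset.card_univ, ZMod.card, nsmul_eq_mul, Nat.cast_ofNat]

theorem cf_zero {k : D} (hk : m.K k) {u : V12} (hu : u ᵥ* (m.R k : M12) ≠ u) : m.cf V k u = 0 := by
  obtain ⟨w, hw⟩ : ∃ w, fm (u ᵥ* (m.R k : M12) - u) w ≠ 0 := by
    by_contra h1
    push Not at h1
    exact hu (sub_eq_zero.1 (eq_zero_of_fm h1))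
  set w' := w ᵥ* (((m.R k)⁻¹ : GL12) : M12) with hw'
  set y := w' - w' ᵥ* (m.R k : M12) with hy
  have h1 : fm u y ≠ 0 := by
    rw [hy, fm_sub_right, ← fm_W (m.R_mem k) u w', hw', vecMul_inv_cancel, ← fm_sub_left]
    exact hw
  have h2 : ∑ v : V12, (m.th V k v : ℂ) * ee (-fm u v) =
      ee (-fm u y) * ∑ v : V12, (m.th V k v : ℂ) * ee (-fm u v) := by
    rw [Finset.mul_sum, ← Equiv.sum_comp (Equiv.addRight y)]
    refine Finset.sum_congr rfl fun v _ => ?_
    rw [Equiv.coe_addRight, hy, th_shift hc hk, ← hy, fm_add_right, neg_add, ee_add]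
    ring
  have h3 : (ee (-fm u y) - 1) * ∑ v : V12, (m.th V k v : ℂ) * ee (-fm u v) = 0 := by
    rw [sub_mul, ← h2, one_mul, sub_self]
  unfold cf
  rw [(mul_eq_zero.1 h3).resolve_left (sub_ne_zero.2 (ee_ne (neg_ne_zero.2 h1))), mul_zero]

theorem cf_conj {l : D} (hl : m.K l) (k : D) (u : V12) :
    m.cf V (l⁻¹ * k * l) (u ᵥ* (m.R l : M12)) = m.cf V k u := by
  unfold cf
  rw [← Equiv.sum_comp (act (m.R l))]
  congr 1
  refine Finset.sum_congr rfl fun v _ => ?_
  show (m.th V _ (v ᵥ* (m.R l : M12)) : ℂ) * ee (-fm _ (v ᵥ* (m.R l : M12))) = _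
  rw [th_conj hc hl, fm_W (m.R_mem l)]

theorem cf_neg {k : D} (hk : m.K k) (u : V12) : m.cf V k (-u) = m.cf V k u := by
  have h1 := cf_conj hc m.K_z k u
  rw [m.R_z, Units.val_neg, Units.val_one, vecMul_neg, vecMul_one, mul_assoc, show k * m.z = m.z * k from hk,
    inv_mul_cancel_left] at h1
  exact h1

theorem cf_one_act (u : V12) {A : GL12} (hA : A ∈ W) : m.cf V 1 (u ᵥ* (A : M12)) = m.cf V 1 u := by
  obtain ⟨l, hl, rfl⟩ := m.R_surj A hA
  have h1 := cf_conj hc hl 1 u
  rwa [mul_one, inv_mul_cancel] at h1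

end

variable [Finite D] (hV : IsCharacter D fun g => (V g : ℂ))
include hV

omit [Finite D] in
theorem V_conj (g h : D) : V (h⁻¹ * g * h) = V g := by
  have h1 := isCharacter_isClassFunction hV g h⁻¹
  rw [_root_.inv_inv] at h1
  exact_mod_cast h1

theorem V_inv (g : D) : V g⁻¹ = V g := by
  have h1 := isCharacter_apply_inv hV g
  rw [map_intCast] at h1
  exact_mod_cast h1

/-- the character of the stabilizer on the weight space -/
theorem exists_char (u : V12) : ∃ χ : m.St u → ℂ, IsCharacter (m.St u) χ ∧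
    ∀ k : m.St u, m.K k → χ k = m.cf V k u := by
  classical
  have h1 : IsCharacter (m.St u) (((fun g => (V g : ℂ)) ∘ (m.St u).subtype) * fun g => m.lam u g) :=
    isCharacter_mul (isCharacter_comp _ hV) (Characters.Brauer.isCharacter_of_monoidHom _)
  let N : Subgroup (m.St u) := (m.R.comp (m.St u).subtype).ker
  have := Fintype.ofFinite N
  refine ⟨_, CharactersDeep.CosetAverage.isCharacter_cosetAverage N h1, fun k hk => ?_⟩
  have hm : ∀ p : V12 × ZMod 3, m.el 1 p.1 p.2 ∈ m.St u := fun p => by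
    show u ᵥ* (m.R _ : M12) = u
    rw [R_el, map_one, Units.val_one, vecMul_one]
  let e : V12 × ZMod 3 ≃ N := Equiv.ofBijective (fun p => ⟨⟨m.el 1 p.1 p.2, hm p⟩, by
      show m.R (m.el 1 p.1 p.2) = 1
      rw [R_el, map_one]⟩) ⟨fun p q h => by
      obtain ⟨h3, h4⟩ := el_inj m.K_one (congrArg (fun t : N => ((t : m.St u) : D)) h)
      exact Prod.ext h3 h4, fun g => by
      obtain ⟨v, c, h⟩ := exists_el (m := m) (g := ((g : m.St u) : D)) m.K_one (by rw [map_one]; exact g.2)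
      exact ⟨(v, c), Subtype.ext (Subtype.ext h.symm)⟩⟩
  have h2 : (Nat.card N : ℂ) = 3 ^ 13 := by
    rw [← Nat.card_congr e, Nat.card_prod, card_rows, Nat.card_zmod]
    norm_num
  show (Nat.card N : ℂ)⁻¹ * _ = _
  unfold cf
  rw [h2, ← Equiv.sum_comp e, Fintype.sum_prod_type]
  congr 1
  refine Finset.sum_congr rfl fun v _ => ?_
  unfold th
  push_cast
  rw [Finset.sum_mul]
  refine Finset.sum_congr rfl fun c _ => ?_
  have h3 := isCharacter_isClassFunction h1 (k * (e (v, c) : m.St u)) k⁻¹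
  rw [_root_.inv_inv, inv_mul_cancel_left] at h3
  rw [h3]
  have h4 : (k : D) * m.el 1 v c = m.el k v c := by unfold el; rw [one_mul, mul_assoc]
  show (V ((k : D) * m.el 1 v c) : ℂ) * ee (-fm u (m.vec ((k : D) * m.el 1 v c))) = _
  rw [h4, vec_el hk]

theorem cf_nat (u : V12) : ∃ n : ℕ, m.cf V 1 u = n := by
  obtain ⟨χ, h1, h2⟩ := exists_char (m := m) hV u
  obtain ⟨n, hn⟩ := isCharacter_apply_one h1
  exact ⟨n, by rw [← hn, h2 1 m.K_one]; rfl⟩

theorem cf_le {k : D} (hk : m.K k) {u : V12} {n : ℕ} (hn : m.cf V 1 u = n) : ‖m.cf V k u‖ ≤ n := by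
  by_cases hu : u ᵥ* (m.R k : M12) = u
  · obtain ⟨χ, h1, h2⟩ := exists_char (m := m) hV u
    have h3 := Characters.SchurBound.norm_le h1 (n := n) (by rw [h2 1 m.K_one]; exact hn) ⟨k, hu⟩
    rwa [h2 ⟨k, hu⟩ hk] at h3
  · rw [cf_zero (V_conj hV) hk hu, norm_zero]
    exact Nat.cast_nonneg n

theorem cf_odd {k : D} (hk : m.K k) {u : V12} (hu : u ᵥ* (m.R k : M12) = u) (h1 : m.cf V 1 u = 1) {n : ℕ}
    (hn : Odd n) (hkn : k ^ n = 1) : m.cf V k u = 1 := by
  obtain ⟨χ, h2, h3⟩ := exists_char (m := m) hV u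
  obtain ⟨f, hf⟩ := Characters.Linear.exists_hom_of_isCharacter h2 (by rw [h3 1 m.K_one]; exact h1)
  have h4 : m.cf V k u ^ n = 1 := by
    rw [← h3 ⟨k, hu⟩ hk, hf, ← Units.val_pow_eq_pow_val, ← map_pow,
      show (⟨k, hu⟩ : m.St u) ^ n = 1 from Subtype.ext hkn, map_one, Units.val_one]
  have h5 : conj (m.cf V k u) = m.cf V k u := by rw [conj_cf, cf_neg (V_conj hV) hk]
  obtain ⟨r, hr⟩ := Complex.conj_eq_iff_real.1 h5
  rw [hr] at h4 ⊢
  have h6 : r ^ n = 1 := by exact_mod_cast h4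
  rw [hn.pow_injective (h6.trans (one_pow n).symm)]
  rfl

/-- the multiplicities of the weights -/
structure Mult (m : Mod D) (V : D → ℤ) : Prop where
  zero : m.cf V 1 0 = 144
  sh : ∀ u, Sh u → m.cf V 1 u = 1
  lg : ∀ u, u ≠ 0 → ¬ Sh u → m.cf V 1 u = 0

omit hV [Finite D] in
theorem sum_split (f : V12 → ℂ) {A : M12} (h : ∀ u, u ≠ 0 → u ∉ shF A → f u = 0) :
    ∑ u, f u = f 0 + ∑ u ∈ shF A, f u := by
  classical
  rw [← Finset.sum_insert (fun h => (mem_shF.1 h).1.ne rfl)]
  symm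
  refine Finset.sum_subset (Finset.subset_univ _) fun u _ hu => ?_
  rw [Finset.mem_insert, not_or] at hu
  exact h u hu.1 hu.2

theorem mult {shB : ℕ → Bool} (O : OrbBox shB) (h1 : V 1 = 196884) (hx : V (m.X 1) = 54)
    (hs : V (m.β s0) = 0 ∨ V (m.β s0) = 54 ∨ V (m.β s0) = 783) : Mult m V := by
  classical
  have hc := V_conj hV
  obtain ⟨n, hn⟩ := cf_nat (m := m) hV 0
  obtain ⟨a, ha⟩ := cf_nat (m := m) hV s0
  obtain ⟨b, hb⟩ := cf_nat (m := m) hV l0
  have ha' : ∀ u, Sh u → m.cf V 1 u = a := by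
    rintro _ ⟨A, hA, rfl⟩
    rw [cf_one_act hc _ hA, ha]
  have hb' : ∀ u, u ≠ 0 → ¬ Sh u → m.cf V 1 u = b := fun u h2 h3 => by
    obtain ⟨A, hA, rfl⟩ := ((O.cover u).resolve_left h2).resolve_left h3
    rw [cf_one_act hc _ hA, hb]
  have hS : ∀ u, u ∈ shF 1 ↔ Sh u := fun u => by rw [mem_shF, vecMul_one, and_iff_left rfl]
  have hcard : (shF 1).card = 65520 := by
    rw [← O.card, ← Nat.card_eq_finsetCard]
    exact Nat.card_congr (Equiv.subtypeEquivRight hS)
  have h0 : (0 : V12) ∉ shF 1 := fun h => ((hS 0).1 h).ne rfl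
  have h2 : m.th V 1 0 = 196992 := by
    have h3 : V (m.X 2) = 54 := by rw [show (2 : ZMod 3) = -1 by decide, m.X_neg, V_inv hV, hx]
    unfold th
    rw [show (Finset.univ : Finset (ZMod 3)) = {0, 1, 2} by decide, Finset.sum_insert (by decide),
      Finset.sum_pair (by decide), el_zero, el_zero, el_zero, one_mul, one_mul, one_mul, m.X_zero, h1, hx, h3]
    norm_num
  have h3 := m.fourier V 1 0
  simp only [fm_zero_right, ee_zero, mul_one] at h3
  rw [h2, ← Finset.sum_add_sum_compl (insert 0 (shF 1)), Finset.sum_insert h0, hn,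
    Finset.sum_congr rfl fun u hu => ha' u ((hS u).1 hu),
    Finset.sum_congr (s₁ := (insert 0 (shF 1))ᶜ) rfl (g := fun _ => (b : ℂ)) fun u hu => by
      rw [Finset.mem_compl, Finset.mem_insert, not_or, hS] at hu
      exact hb' u hu.1 hu.2,
    Finset.sum_const, Finset.sum_const, Finset.card_compl, Finset.card_insert_of_notMem h0, hcard,
    ← Nat.card_eq_fintype_card, card_rows, nsmul_eq_mul, nsmul_eq_mul] at h3
  have h4 : 3 * (n + 65520 * a + 465920 * b) = 196992 := by
    norm_num at h3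
    exact_mod_cast h3
  have h5 : b = 0 := by omega
  rw [h5, Nat.cast_zero] at hb'
  have h6 : SS 1 s0 = 1278 := by
    have h7 : ((shF 1).filter fun u => fm u s0 = 0).card = 22266 := by
      rw [← O.perp, ← Nat.card_eq_finsetCard]
      exact Nat.card_congr (Equiv.subtypeEquivRight fun u => by rw [Finset.mem_filter, hS])
    have h8 := Finset.card_filter_add_card_filter_not (s := shF 1) fun u => fm u s0 = 0
    unfold SS rr
    rw [Finset.sum_ite, Finset.sum_const, Finset.sum_const, h7,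
      show ((shF 1).filter fun u => ¬ fm u s0 = 0).card = 43254 by omega]
    norm_num
  have h7 := m.fourier V 1 s0
  obtain ⟨w, hw⟩ : ∃ w, fm s0 w ≠ 0 := by
    by_contra h8
    push Not at h8
    exact s0_ne (eq_zero_of_fm h8)
  rw [th_eq hc m.K_one (by rw [map_one, Units.val_one, vecMul_one]) hw 0, el, one_mul, m.X_zero, mul_one,
    sum_split (A := 1) _ (fun u h8 h9 => by rw [hb' u h8 (by rwa [hS] at h9), zero_mul]), hn, fm_zero_left, ee_zero,
    Finset.sum_congr rfl fun u hu => by rw [ha' u ((hS u).1 hu)], ← Finset.mul_sum] at h7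
  have h8 := SS_eq 1 s0
  rw [h6] at h8
  have h9 : (V (m.β s0) : ℂ) = n + 639 * a := by
    push_cast at h7 h8
    linear_combination (-1 / 3) * h7 + (-a / 2) * h8
  have h10 : V (m.β s0) = n + 639 * a := by exact_mod_cast h9
  have h11 : a = 1 := by omega
  have h12 : n = 144 := by omega
  exact ⟨by rw [hn, h12]; rfl, fun u hu => by rw [ha' u hu, h11, Nat.cast_one], hb'⟩

variable (M : Mult m V)
include M

theorem formula {k : D} (hk : m.K k) (v : V12) :
    (m.th V k v : ℂ) = 3 * (m.cf V k 0 + ∑ u ∈ shF (m.R k : M12), m.cf V k u * ee (fm u v)) := by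
  rw [← m.fourier V k v, sum_split (A := (m.R k : M12)), fm_zero_left, ee_zero, mul_one]
  intro u h1 h2
  by_cases h3 : u ᵥ* (m.R k : M12) = u
  · have h4 := cf_le hV hk (n := 0) (by rw [M.lg u h1 fun h => h2 (mem_shF.2 ⟨h, h3⟩), Nat.cast_zero])
    rw [Nat.cast_zero, norm_le_zero_iff] at h4
    rw [h4, zero_mul]
  · rw [cf_zero (V_conj hV) hk h3, zero_mul]

theorem formula_odd {k : D} (hk : m.K k) {n : ℕ} (hn : Odd n) (hkn : k ^ n = 1) (v : V12) :
    ((2 * m.th V k v - 3 * SS (m.R k : M12) v : ℤ) : ℂ) = 6 * m.cf V k 0 := by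
  have h1 := formula hV M hk v
  rw [Finset.sum_congr rfl fun u hu => by
    rw [cf_odd hV hk (mem_shF.1 hu).2 (M.sh u (mem_shF.1 hu).1) hn hkn, one_mul]] at h1
  push_cast
  rw [SS_eq, h1]
  ring

/-- **The trace formula** for elements of odd order -/
theorem th_odd {k : D} (hk : m.K k) {n : ℕ} (hn : Odd n) (hkn : k ^ n = 1) (v w : V12) :
    2 * m.th V k v - 3 * SS (m.R k : M12) v = 2 * m.th V k w - 3 * SS (m.R k : M12) w := by
  have h1 := (formula_odd hV M hk hn hkn v).trans (formula_odd hV M hk hn hkn w).symm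
  exact_mod_cast h1

theorem th_odd_le {k : D} (hk : m.K k) {n : ℕ} (hn : Odd n) (hkn : k ^ n = 1) (v : V12) :
    |2 * m.th V k v - 3 * SS (m.R k : M12) v| ≤ 864 := by
  have h1 := congrArg norm (formula_odd hV M hk hn hkn v)
  have h2 := cf_le hV hk (n := 144) (by rw [M.zero]; rfl)
  rw [Complex.norm_intCast, norm_mul] at h1
  have h3 : ‖(6 : ℂ)‖ = 6 := by simp
  have h4 : (|((2 * m.th V k v - 3 * SS (m.R k : M12) v : ℤ) : ℝ)|) ≤ 864 := by
    rw [h1, h3]
    push_cast at h2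
    linarith
  exact_mod_cast h4

theorem th_le {k : D} (hk : m.K k) (v : V12) {n : ℕ} (hn : Nat.card {u : V12 // u ᵥ* (m.R k : M12) = u} ≤ n) :
    m.th V k v ≤ 3 * (144 + n) := by
  have h1 := congrArg norm (formula hV M hk v)
  have h2 := cf_le hV hk (n := 144) (by rw [M.zero]; rfl)
  have h3 : ‖∑ u ∈ shF (m.R k : M12), m.cf V k u * ee (fm u v)‖ ≤ n := by
    refine (norm_sum_le _ _).trans ((Finset.sum_le_card_nsmul _ _ 1 fun u hu => ?_).trans ?_)
    · have h4 := cf_le hV hk (n := 1) (by rw [M.sh u (mem_shF.1 hu).1, Nat.cast_one])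
      rw [norm_mul, norm_ee, mul_one]
      exact_mod_cast h4
    · rw [nsmul_eq_mul, mul_one, Nat.cast_le, ← Nat.card_eq_finsetCard]
      refine le_trans (Nat.card_le_card_of_injective (β := {u : V12 // u ᵥ* (m.R k : M12) = u})
        (fun u => ⟨u.1, (mem_shF.1 u.2).2⟩) fun a b h => ?_) hn
      exact Subtype.ext (congrArg Subtype.val h :)
  have h4 := norm_add_le (m.cf V k 0) (∑ u ∈ shF (m.R k : M12), m.cf V k u * ee (fm u v))
  rw [Complex.norm_intCast, norm_mul] at h1
  have h5 : ‖(3 : ℂ)‖ = 3 := by simp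
  have h6 : (m.th V k v : ℝ) ≤ 3 * (144 + n) := by
    have h7 := le_abs_self (m.th V k v : ℝ)
    rw [h1, h5] at h7
    push_cast at h2
    linarith
  exact_mod_cast h6

theorem th_const {k : D} (hk : m.K k) (h : shF (m.R k : M12) = ∅) (v : V12) : m.th V k v = m.th V k 0 := by
  have h1 := formula hV M hk v
  have h2 := formula hV M hk 0
  rw [h, Finset.sum_empty] at h1 h2
  exact_mod_cast h1.trans h2.symm

end Mod

end Cfsg.Agent.TAB.C3B
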